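import Groth.Agent.ResGerbeLib.FieldPt
import Groth.Agent.AlgSpLib.Reduced
import Groth.Agent.AlgSpLib.ReducedSmooth
import Groth.Agent.AlgStSetoidLib.Mono
import Groth.Agent.AlgStBig.Rows1

/-! One-point stacks and morphisms from spectra of fields. -/

set_option autoImplicit false
set_option linter.all false
set_option backward.isDefEq.respectTransparency false
set_option backward.isDefEq.respectTransparency.types false

universe u

open CategoryTheory CategoryTheory.Limits AlgebraicGeometry Opposite AlgSp FibCat FibLib AlgSpLib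
open CategoryTheory.Functor (Fiber)
open AlgStLib AlgStBig

namespace ResGerbeLib

variable {S : Scheme.{u}} {𝒳 𝒵 : AlgSt.Cat S}

/-- Every chart of an algebraic stack is representable by algebraic spaces. -/
theorem repByAlgSp1_overCat (h : AlgSt.IsAlgStack Scheme.fppfPrecoverage 𝒵) {U : Over S}
    (x : overCat U ⥤ᵇ 𝒵) : AlgSt.RepByAlgSp1 x := by
  haveI := h.isStack.1
  exact repByAlgSp1_diag_iff.mp h.diag U x

theorem repByAlgSp1_ofSch (h : AlgSt.IsAlgStack Scheme.fppfPrecoverage 𝒵) {U : Over S}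
    (x : AlgSt.ofSch U ⥤ᵇ 𝒵) : AlgSt.RepByAlgSp1 x := by
  haveI := h.isStack.1
  exact repByAlgSp1_of_space (repByAlgSp_ofSp (IsAlgSpace.yon_obj U))
    (fun V y => repByAlgSp1_overCat h y) x

/-- A base change of two functors from schemes, with both projections. -/
theorem exists_two_sided [IsFibGrpd 𝒵.p] {U T : Over S} (w : AlgSt.ofSch U ⥤ᵇ 𝒵) (z : AlgSt.ofSch T ⥤ᵇ 𝒵)
    (hz : AlgSt.RepByAlgSp1 z) :
    ∃ (H : Sp S) (a : H ⟶ (yon S).obj U) (b : H ⟶ (yon S).obj T),
      IsAlgSpace H ∧ Along w z a.hom ∧ Along z w b.hom := by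
  haveI : IsFibGrpd (AlgSt.ofSch U).p := Stk.isFibGrpd_ofPsh _
  haveI : IsFibGrpd (AlgSt.ofSch T).p := Stk.isFibGrpd_ofPsh _
  haveI : IsFibGrpd (fp w z).p := isFibGrpd_fp
  obtain ⟨H, a, hH, ha⟩ := exists_along hz (IsAlgSpace.yon_obj (S := S) U) w
  obtain ⟨e, he, β⟩ := ha
  obtain ⟨γ⟩ := nonempty_iso_mapOf (BasedFunctor.comp e (FibCat.fpSnd w z))
  exact ⟨H, a, ObjectProperty.homMk (mapOf (BasedFunctor.comp e (FibCat.fpSnd w z))), hH, ⟨e, he, β⟩,
    BasedFunctor.comp e (fpSwap w z), isEquivOver_comp he (isEquivOver_fpSwap w z), ⟨γ⟩⟩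

/-- Surjectivity of the chart of a surjective composition. -/
theorem surjective_left {U V : Over S} {H : Sp S} {c : (yon S).obj U ⟶ H} {a : H ⟶ (yon S).obj V} {φ : U ⟶ V}
    (hc : RepWith @Surjective c) (ha : IsSurjectiveMor a) (e : (yon S).map φ = c ≫ a) : Surjective φ.left := by
  refine ⟨fun v => ?_⟩
  obtain ⟨h, hh⟩ := ha (Points.schemeHomeo V v)
  obtain ⟨y, rfl⟩ := map_surjective_of_repWith hc h
  obtain ⟨u, rfl⟩ := (Points.schemeHomeo U).surjective y
  refine ⟨u, (Points.schemeHomeo V).injective ?_⟩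
  rw [← hh, ← Points.map_yon_map_apply, e, Points.map_comp]

/-- A stack with a surjective morphism from the spectrum of a field has exactly one point. -/
theorem points_of_surjective_fieldPt (h𝒵 : AlgSt.IsAlgStack Scheme.fppfPrecoverage 𝒵) {k : Type u} [Field k]
    {a : Spec (CommRingCat.of k) ⟶ S} (z : overCat (Over.mk a) ⥤ᵇ 𝒵)
    (hzs : AlgSt.RepByAlgSpWith IsSurjectiveMor z) :
    Nonempty (AlgSt.Points 𝒵) ∧ Subsingleton (AlgSt.Points 𝒵) := by
  haveI := h𝒵.isStack.1
  haveI : IsFibGrpd (AlgSt.ofSch (Over.mk a)).p := Stk.isFibGrpd_ofPsh _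
  haveI : Subsingleton ↥(Over.mk a).left := inferInstanceAs (Subsingleton (PrimeSpectrum k))
  haveI : Nonempty ↥(Over.mk a).left := inferInstanceAs (Nonempty (PrimeSpectrum k))
  let E := (Points.schemeHomeo (Over.mk a)).toEquiv.trans (ptsEquiv ((yon S).obj (Over.mk a))).symm
  haveI := E.symm.subsingleton
  exact ⟨(E.nonempty_congr.1 inferInstance).map (AlgSt.Points.map (BasedFunctor.comp (AlgSt.toOverCat _) z)),
    (surjective_of_repByAlgSpWith (repByAlgSpWith_toOverCat_comp hzs)).subsingleton⟩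

/-- Reducedness descends along flat surjective morphisms from spectra of fields. -/
theorem reduced_of_fieldPt (h𝒵 : AlgSt.IsAlgStack Scheme.fppfPrecoverage 𝒵) {k : Type u} [Field k]
    {s : Spec (CommRingCat.of k) ⟶ S} (z : overCat (Over.mk s) ⥤ᵇ 𝒵)
    (hzs : AlgSt.RepByAlgSpWith IsSurjectiveMor z) (hzf : AlgSt.RepByAlgSpWith (LocP @Flat) z) :
    AlgSt.SmoothLocally (fun T => AlgebraicGeometry.IsReduced T) 𝒵 := by
  intro U x hx
  haveI := h𝒵.isStack.1
  obtain ⟨H, a, b, hH, ha, hb⟩ := exists_two_sided (BasedFunctor.comp (AlgSt.toOverCat U) x)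
    (BasedFunctor.comp (AlgSt.toOverCat _) z) (repByAlgSp1_ofSch h𝒵 _)
  have hb' := prop_of_along good_smooth.bc.precomp_iso (repByAlgSpWith_toOverCat_comp hx) hb
  have haf := prop_of_along good_flat.bc.precomp_iso (repByAlgSpWith_toOverCat_comp hzf) ha
  have has := prop_of_along good_surjective.bc.precomp_iso (repByAlgSpWith_toOverCat_comp hzs) ha
  obtain ⟨W, c, hc, hcs⟩ := hH.atlas
  obtain ⟨φ, hφ⟩ := (yon S).map_surjective (c ≫ a)
  obtain ⟨ψ, hψ⟩ := (yon S).map_surjective (c ≫ b)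
  haveI : Smooth ψ.left := (locP_yon_map_iff (P := (@Smooth : MorphismProperty Scheme.{u})) ψ).1
    (hψ ▸ locP_etale_comp (isEtaleMor_of_repWith hc) hb')
  haveI : AlgebraicGeometry.IsReduced (Over.mk s).left :=
    inferInstanceAs (AlgebraicGeometry.IsReduced (Spec (CommRingCat.of k)))
  haveI : AlgebraicGeometry.IsReduced W.left := AlgSpLib.isReduced_of_smooth ψ.left
  haveI : Flat φ.left := (locP_yon_map_iff (P := (@Flat : MorphismProperty Scheme.{u})) φ).1
    (hφ ▸ locP_etale_comp (isEtaleMor_of_repWith hc) haf)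
  haveI := surjective_left hcs has hφ
  exact AlgSpLib.isReduced_of_flat_surjective φ.left

/-- Every chart from a nonempty scheme of a one-point stack is surjective. -/
theorem surjective_of_singleton (h𝒵 : AlgSt.IsAlgStack Scheme.fppfPrecoverage 𝒵)
    (hsub : Subsingleton (AlgSt.Points 𝒵)) {U : Over S} [Nonempty ↥U.left] (x : overCat U ⥤ᵇ 𝒵) :
    AlgSt.RepByAlgSpWith IsSurjectiveMor x := by
  haveI := h𝒵.isStack.1
  haveI := AlgStBig.isFibGrpd_overCat U
  exact (surjective_iff_repByAlgSpWith (repByAlgSp1_overCat h𝒵 x)).1 fun p =>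
    ⟨AlgSt.Points.ofChart (BasedFunctor.id _) (Classical.arbitrary ↥U.left), Subsingleton.elim _ _⟩

/-- Every morphism from a nonempty scheme to a reduced one-point stack is flat and surjective. -/
theorem surjective_flat_of_singleton (h𝒵 : AlgSt.IsAlgStack Scheme.fppfPrecoverage 𝒵)
    (hred : AlgSt.SmoothLocally (fun T => AlgebraicGeometry.IsReduced T) 𝒵)
    (hsub : Subsingleton (AlgSt.Points 𝒵)) {U : Over S} [Nonempty ↥U.left] (x : overCat U ⥤ᵇ 𝒵) :
    AlgSt.RepByAlgSpWith IsSurjectiveMor x ∧ AlgSt.RepByAlgSpWith (LocP @Flat) x := by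
  haveI := AlgStBig.isFibGrpd_overCat U
  exact ⟨surjective_of_singleton h𝒵 hsub x,
    repByAlgSpWith_flat_of_singleton h𝒵 hred hsub x (repByAlgSp1_overCat h𝒵 x)⟩

end ResGerbeLib
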