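import Groth.Agent.ResGerbeLib.Map
import Groth.Agent.AlgStBig.Rows4
import Groth.Agent.AlgSpLib.Qc

/-! When the induced map of residual gerbes is an equivalence. -/

set_option autoImplicit false
set_option linter.all false
set_option backward.isDefEq.respectTransparency false
set_option backward.isDefEq.respectTransparency.types false

universe u

open CategoryTheory CategoryTheory.Limits AlgebraicGeometry Opposite AlgSp FibCat FibLib AlgSpLib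
open CategoryTheory.Functor (Fiber)
open AlgStLib AlgStBig

namespace ResGerbeLib

variable {S : Scheme.{u}} {𝒳 𝒴 𝒵 𝒲 : AlgSt.Cat S}

local notation "Isos" => MorphismProperty.isomorphisms (AlgSp.Sp _)

/-- Base changes depend on the base functor up to isomorphism. -/
theorem repByAlgSpWith_fpFst_congr [IsFibGrpd 𝒳.p] [IsFibGrpd 𝒴.p] {P : MorphismProperty (Sp S)}
    {g g' : 𝒵 ⥤ᵇ 𝒴} {f : 𝒳 ⥤ᵇ 𝒴} (κ : g ≅ g') (h : AlgSt.RepByAlgSpWith P (FibCat.fpFst g f)) :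
    AlgSt.RepByAlgSpWith P (FibCat.fpFst g' f) := by
  rw [repByAlgSpWith_iff] at h ⊢
  intro U u
  obtain ⟨H, a, hH, ha, hP⟩ := h U u
  exact ⟨H, a, hH, ((Along.of_fpFst ha).congr (whiskerLeftIso' u κ) (Iso.refl _)).fpFst, hP⟩

/-- Base change in two steps. -/
theorem repByAlgSpWith_fpFst_comp [IsFibGrpd 𝒳.p] [IsFibGrpd 𝒴.p] [IsFibGrpd 𝒵.p] {P : MorphismProperty (Sp S)}
    {g : 𝒵 ⥤ᵇ 𝒴} {f : 𝒳 ⥤ᵇ 𝒴} (a : 𝒲 ⥤ᵇ 𝒵) (h : AlgSt.RepByAlgSpWith P (FibCat.fpFst g f)) :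
    AlgSt.RepByAlgSpWith P (FibCat.fpFst (BasedFunctor.comp a g) f) := by
  rw [repByAlgSpWith_iff] at h ⊢
  intro U u
  obtain ⟨H, b, hH, hb, hP⟩ := h U (BasedFunctor.comp u a)
  have h1 := Along.of_fpFst hb
  exact ⟨H, b, hH, (show Along (BasedFunctor.comp u (BasedFunctor.comp a g)) f b.hom from h1).fpFst, hP⟩

theorem repByAlgSpWith_fpFst_paste [IsFibGrpd 𝒳.p] [IsFibGrpd 𝒴.p] [IsFibGrpd 𝒵.p] {P : MorphismProperty (Sp S)}
    {g : 𝒵 ⥤ᵇ 𝒴} {f : 𝒳 ⥤ᵇ 𝒴} (a : 𝒲 ⥤ᵇ 𝒵) (h : AlgSt.RepByAlgSpWith P (FibCat.fpFst (BasedFunctor.comp a g) f)) :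
    AlgSt.RepByAlgSpWith P (FibCat.fpFst a (FibCat.fpFst g f)) := by
  rw [repByAlgSpWith_iff] at h ⊢
  intro U u
  obtain ⟨H, b, hH, hb, hP⟩ := h U u
  have h1 := Along.of_fpFst hb
  exact ⟨H, b, hH,
    ((show Along (BasedFunctor.comp (BasedFunctor.comp u a) g) f b.hom from h1).fpFst).fpFst, hP⟩

/-- Being an isomorphism descends along flat quasi-compact surjective morphisms. -/
theorem repByAlgSpWith_isIso_of_fpqc_cover [IsFibGrpd 𝒳.p] [IsFibGrpd 𝒴.p] [IsFibGrpd 𝒵.p]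
    {f : 𝒳 ⥤ᵇ 𝒴} (hf : AlgSt.RepByAlgSp1 f) {z : 𝒵 ⥤ᵇ 𝒴}
    (hz₁ : AlgSt.RepByAlgSpWith (LocP @Flat) z) (hz₂ : AlgSt.RepByAlgSpWith IsQuasiCompactMor z)
    (hz₃ : AlgSt.RepByAlgSpWith IsSurjectiveMor z) (h : AlgSt.RepByAlgSpWith Isos (FibCat.fpFst z f)) :
    AlgSt.RepByAlgSpWith Isos f := by
  haveI : IsFibGrpd (fp z f).p := isFibGrpd_fp
  refine repByAlgSpWith_of_forall hf fun U u H a hH ha => ?_
  have hU := IsAlgSpace.yon_obj (S := S) U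
  obtain ⟨W, c, hW, hc, hc₁⟩ := (repByAlgSpWith_iff _ z).mp hz₁ U u
  have hc₂ := prop_of_along good_qc.bc.precomp_iso hz₂ hc
  have hc₃ := prop_of_along good_surjective.bc.precomp_iso hz₃ hc
  have sq := IsPullback.of_hasPullback a c
  have hHW := isAlgSpace_pullback hH hW hU a c
  refine (isLocalOnBase_fpqc_isomorphisms S (ι := PUnit.{u + 1}) _ (fun _ => c) hU (fun _ => hW)
    (isFpqcCover_singleton hW hU hc₁ hc₂ hc₃) a hH _ (fun _ => pullback.snd a c)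
    (fun _ => pullback.fst a c) (fun _ => hHW) (fun _ => sq)).mpr fun _ => ?_
  obtain ⟨e, he, ⟨β⟩⟩ := hc
  let v : AlgSt.ofSp W ⥤ᵇ 𝒵 := BasedFunctor.comp e (FibCat.fpSnd u z)
  have hv : BasedFunctor.comp v z ≅ BasedFunctor.comp (Stk.ofPshMap c.hom) u :=
    (whiskerLeftIso' e (fpIso u z)).symm ≪≫ whiskerRightIso' β u
  obtain ⟨H', a', hH', ha', hP'⟩ := exists_along_test Groth.Agent.S16807.stableBC_isomorphisms
    (schTest_of_fppf (isLocalOnBase_fppf_of_fpqc (isLocalOnBase_fpqc_isomorphisms S))) h hW v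
  obtain ⟨i, hi⟩ := along_hom_unique (ha.of_isPullback (isPullback_sheaf sq))
    ((Along.of_fpFst ha').congr hv (Iso.refl _))
  rw [← hi]
  exact Groth.Agent.S16807.stableBC_isomorphisms.precomp_iso i a' hH' hW hP'

/-- An equivalence is an isomorphism after every base change. -/
theorem repByAlgSpWith_isIso_of_isEquivOver [IsFibGrpd 𝒳.p] [IsFibGrpd 𝒴.p] {e : 𝒳 ⥤ᵇ 𝒴} (he : IsEquivOver e) :
    AlgSt.RepByAlgSpWith Isos e := by
  refine (repByAlgSpWith_square_iff (f := BasedFunctor.id 𝒴) (f' := e) (a := e) (b := BasedFunctor.id 𝒴)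
    he (isEquivOver_id _) (eqToIso rfl) Isos).mp ?_
  refine (repByAlgSpWith_iff _ _).mpr fun U u => ?_
  exact ⟨_, 𝟙 ((yon S).obj U), IsAlgSpace.yon_obj U, ⟨fpGraph u, isEquivOver_fpGraph u, ⟨eqToIso rfl⟩⟩,
    (inferInstance : IsIso (𝟙 ((yon S).obj U)))⟩

/-- An isomorphism after every base change is an equivalence. -/
theorem isEquivOver_of_isos [IsFibGrpd 𝒳.p] [IsFibGrpd 𝒴.p] {f : 𝒳 ⥤ᵇ 𝒴} [f.toFunctor.Faithful]
    [f.toFunctor.Full] (hiso : AlgSt.RepByAlgSpWith Isos f) : IsEquivOver f := by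
  haveI : f.toFunctor.EssSurj := ⟨fun y => by
    let yb : 𝒴.p.Fiber (𝒴.p.obj y) := Functor.Fiber.mk (p := 𝒴.p) (a := y) rfl
    let u : AlgSt.ofSch (𝒴.p.obj y) ⥤ᵇ 𝒴 := BasedFunctor.comp (AlgSt.toOverCat _) (ofPoint yb)
    obtain ⟨κ⟩ := nonempty_evalAtId_ofPoint_iso yb
    let ko : u.obj ⟨𝒴.p.obj y, ⟨𝟙 _⟩⟩ ≅ y :=
      ⟨κ.hom.1, κ.inv.1, congrArg Subtype.val κ.hom_inv_id, congrArg Subtype.val κ.inv_hom_id⟩
    obtain ⟨H', m', hH', ha', hm'⟩ := (repByAlgSpWith_iff _ f).mp hiso (𝒴.p.obj y) u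
    haveI : IsIso m' := hm'
    obtain ⟨z', ⟨l⟩⟩ := AlgStBig.exists_section_of_mem ha'
    exact ⟨z', ⟨l.symm ≪≫ ko⟩⟩⟩
  haveI : f.toFunctor.IsEquivalence := {}
  haveI : 𝒳.p.IsFibered := FibLib.isFibered_of_isFibGrpd _
  exact isEquivOver_of_isEquivalence_of_isFibered f

end ResGerbeLib
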