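import Groth.Agent.ResGerbeLib.Basic
import Groth.Agent.AlgStBig.SmLoc

/-! Field points locally of finite type, and Noetherian one-point stacks. -/

set_option autoImplicit false
set_option linter.all false
set_option backward.isDefEq.respectTransparency false
set_option backward.isDefEq.respectTransparency.types false

universe u

open CategoryTheory CategoryTheory.Limits AlgebraicGeometry Opposite AlgSp FibCat FibLib AlgSpLib
open CategoryTheory.Functor (Fiber)
open AlgStLib AlgStBig

namespace ResGerbeLib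

variable {S : Scheme.{u}} {𝒵 : AlgSt.Cat S}

/-- Local Noetherianity descends along fppf morphisms from spectra of fields. -/
theorem locallyNoetherian_of_fieldPt (h𝒵 : AlgSt.IsAlgStack Scheme.fppfPrecoverage 𝒵) {k : Type u} [Field k]
    {s : Spec (CommRingCat.of k) ⟶ S} (z : overCat (Over.mk s) ⥤ᵇ 𝒵)
    (hzp : AlgSt.RepByAlgSpWith (LocP @LocallyOfFinitePresentation) z)
    (hzs : AlgSt.RepByAlgSpWith IsSurjectiveMor z) (hzf : AlgSt.RepByAlgSpWith (LocP @Flat) z) :
    AlgSt.SmoothLocally (fun T => IsLocallyNoetherian T) 𝒵 := by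
  intro U x hx
  haveI := h𝒵.isStack.1
  obtain ⟨H, a, b, hH, ha, hb⟩ := exists_two_sided (BasedFunctor.comp (AlgSt.toOverCat U) x)
    (BasedFunctor.comp (AlgSt.toOverCat _) z) (repByAlgSp1_ofSch h𝒵 _)
  have hb' := prop_of_along good_smooth.bc.precomp_iso (repByAlgSpWith_toOverCat_comp hx) hb
  have haf := prop_of_along good_flat.bc.precomp_iso (repByAlgSpWith_toOverCat_comp hzf) ha
  have hap := prop_of_along good_lfp.bc.precomp_iso (repByAlgSpWith_toOverCat_comp hzp) ha
  have has := prop_of_along good_surjective.bc.precomp_iso (repByAlgSpWith_toOverCat_comp hzs) ha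
  obtain ⟨W, c, hc, hcs⟩ := hH.atlas
  obtain ⟨φ, hφ⟩ := (yon S).map_surjective (c ≫ a)
  obtain ⟨ψ, hψ⟩ := (yon S).map_surjective (c ≫ b)
  haveI : Smooth ψ.left := (locP_yon_map_iff (P := (@Smooth : MorphismProperty Scheme.{u})) ψ).1
    (hψ ▸ locP_etale_comp (isEtaleMor_of_repWith hc) hb')
  haveI : IsLocallyNoetherian (Over.mk s).left :=
    inferInstanceAs (IsLocallyNoetherian (Spec (CommRingCat.of k)))
  haveI : IsLocallyNoetherian W.left := LocallyOfFiniteType.isLocallyNoetherian ψ.left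
  haveI : Flat φ.left := (locP_yon_map_iff (P := (@Flat : MorphismProperty Scheme.{u})) φ).1
    (hφ ▸ locP_etale_comp (isEtaleMor_of_repWith hc) haf)
  haveI : LocallyOfFinitePresentation φ.left :=
    (locP_yon_map_iff (P := (@LocallyOfFinitePresentation : MorphismProperty Scheme.{u})) φ).1
      (hφ ▸ locP_etale_comp (isEtaleMor_of_repWith hc) hap)
  haveI := surjective_left hcs has hφ
  exact AlgSpLib.isLocallyNoetherian_of_fppf_surjective φ.left

/-- A nonempty scheme has a field point locally of finite type. -/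
theorem exists_closed_point (X : Scheme.{u}) [Nonempty ↥X] :
    ∃ (k : Type u) (_ : Field k) (g : Spec (CommRingCat.of k) ⟶ X),
      LocallyOfFiniteType g ∧ (IsLocallyNoetherian X → LocallyOfFinitePresentation g) := by
  obtain ⟨x⟩ := ‹Nonempty ↥X›
  obtain ⟨V, hV, hxV, -⟩ := exists_isAffineOpen_mem_and_subset (X := X) (U := ⊤) (x := x) trivial
  haveI : Nonempty ↥V := ⟨⟨x, hxV⟩⟩
  obtain ⟨m, hm⟩ := Ideal.exists_maximal Γ(X, V)
  have hf : Function.Surjective (Ideal.Quotient.mk m) := Ideal.Quotient.mk_surjective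
  let q : CommRingCat.of Γ(X, V) ⟶ CommRingCat.of (Γ(X, V) ⧸ m) := CommRingCat.ofHom (Ideal.Quotient.mk m)
  have hft : q.hom.FiniteType := RingHom.FiniteType.of_surjective _ hf
  haveI : LocallyOfFiniteType (Spec.map q) := HasRingHomProperty.Spec_iff.mpr hft
  refine ⟨Γ(X, V) ⧸ m, Ideal.Quotient.field m, Spec.map q ≫ hV.fromSpec, inferInstance, fun _ => ?_⟩
  haveI : IsNoetherianRing Γ(X, V) := IsLocallyNoetherian.component_noetherian ⟨V, hV⟩
  haveI : LocallyOfFinitePresentation (Spec.map q) :=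
    (LocallyOfFinitePresentation.SpecMap_iff q).mpr (RingHom.FinitePresentation.of_finiteType.mp hft)
  infer_instance

/-- A nonempty algebraic stack has a field point locally of finite type. -/
theorem exists_fieldPt (h𝒵 : AlgSt.IsAlgStack Scheme.fppfPrecoverage 𝒵) (hne : Nonempty (AlgSt.Points 𝒵)) :
    ∃ (k : Type u) (_ : Field k) (a : Spec (CommRingCat.of k) ⟶ S) (z : overCat (Over.mk a) ⥤ᵇ 𝒵),
      AlgSt.RepByAlgSpWith (LocP @LocallyOfFiniteType) z ∧
        (AlgSt.SmoothLocally (fun T => IsLocallyNoetherian T) 𝒵 →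
          AlgSt.RepByAlgSpWith (LocP @LocallyOfFinitePresentation) z) := by
  haveI := h𝒵.isStack.1
  obtain ⟨U, x, hx, hxs⟩ := h𝒵.atlas
  haveI := AlgStBig.isFibGrpd_overCat U
  haveI : IsFibGrpd (AlgSt.ofSch U).p := Stk.isFibGrpd_ofPsh _
  obtain ⟨p⟩ := hne
  obtain ⟨y, -⟩ := surjective_of_repByAlgSpWith (repByAlgSpWith_toOverCat_comp hxs) p
  haveI : Nonempty ↥U.left := ⟨(Points.schemeHomeo U).symm (ptsEquiv _ y)⟩
  obtain ⟨k, hk, g, hg, hg'⟩ := exists_closed_point U.left
  let j : Over.mk (g ≫ U.hom) ⟶ U := Over.homMk g rfl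
  have hw := repByAlgSpWith_toOverCat_comp hx
  have hU := IsAlgSpace.yon_obj (S := S) U
  have hlft : ∀ {X Y : Sp S} (f : X ⟶ Y), LocP @LocallyOfFinitePresentation f → LocP @LocallyOfFiniteType f :=
    fun f h => locP_mono (fun _ _ f (_ : LocallyOfFinitePresentation f) => inferInstanceAs (LocallyOfFiniteType f)) h
  refine ⟨k, hk, g ≫ U.hom, spaceChart ((yon S).map j) (BasedFunctor.comp (AlgSt.toOverCat U) x), ?_, fun hn => ?_⟩
  · exact repByAlgSpWith_spaceChart good_lft hU ((locP_yon_map_iff j).mpr hg)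
      (repByAlgSpWith_mono (fun _ _ _ _ _ h => hlft _ (locP_lfp_of_smooth h)) hw)
  · exact repByAlgSpWith_spaceChart good_lfp hU ((locP_yon_map_iff j).mpr (hg' (hn U x hx)))
      (repByAlgSpWith_mono (fun _ _ _ _ _ h => locP_lfp_of_smooth h) hw)

end ResGerbeLib
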