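import Groth.Agent.ResGerbeLib.Factor
import Groth.Agent.ResGerbeLib.Charts
import Groth.Agent.AlgStBig.Rows4

/-! Functoriality of residual gerbes. -/

set_option autoImplicit false
set_option linter.all false
set_option backward.isDefEq.respectTransparency false
set_option backward.isDefEq.respectTransparency.types false

universe u

open CategoryTheory CategoryTheory.Limits AlgebraicGeometry Opposite AlgSp FibCat FibLib AlgSpLib
open CategoryTheory.Functor (Fiber)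
open AlgStLib AlgStBig

namespace ResGerbeLib

variable {S : Scheme.{u}} {𝒳 𝒴 : AlgSt.Cat S}

/-- A residual gerbe has an fppf surjective point from the spectrum of a field. -/
theorem exists_fppf_fieldPt {x : AlgSt.Points 𝒳} {Q : 𝒳.obj → Prop}
    (hQ : Gerb.IsResGerbe Scheme.fppfPrecoverage 𝒳 x Q) :
    ∃ (k : Type u) (_ : Field k) (a : Spec (CommRingCat.of k) ⟶ S)
      (z : overCat (Over.mk a) ⥤ᵇ AlgSt.fullSub 𝒳 Q),
      AlgSt.RepByAlgSpWith (LocP @LocallyOfFinitePresentation) z ∧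
        AlgSt.RepByAlgSpWith IsSurjectiveMor z ∧ AlgSt.RepByAlgSpWith (LocP @Flat) z := by
  obtain ⟨-, hAS, hred, hln, hne, hsub, -⟩ := hQ
  obtain ⟨k, hk, a, z, -, hz⟩ := exists_fieldPt hAS hne
  letI := hk
  haveI : Nonempty ↥(Over.mk a).left := inferInstanceAs (Nonempty (PrimeSpectrum k))
  exact ⟨k, hk, a, z, hz hln, surjective_flat_of_singleton hAS hred hsub z⟩

/-- Images of objects of the residual gerbe lie in the residual gerbe of the image point. -/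
theorem mem_map (h𝒳 : AlgSt.IsAlgStack Scheme.fppfPrecoverage 𝒳)
    (h𝒴 : AlgSt.IsAlgStack Scheme.fppfPrecoverage 𝒴) (f : 𝒳 ⥤ᵇ 𝒴) {x : AlgSt.Points 𝒳} {Q : 𝒳.obj → Prop}
    (hQ : Gerb.IsResGerbe Scheme.fppfPrecoverage 𝒳 x Q) {Q' : 𝒴.obj → Prop}
    (hQ' : Gerb.IsResGerbe Scheme.fppfPrecoverage 𝒴 (AlgSt.Points.map f x) Q') :
    ∀ o : (AlgSt.fullSub 𝒳 Q).obj, Q' (f.obj o.obj) := by
  obtain ⟨k, hk, a, z, hzp, hzs, hzf⟩ := exists_fppf_fieldPt hQ
  letI := hk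
  let F := BasedFunctor.comp (AlgSt.subIncl 𝒳 Q) f
  let G := AlgSt.subIncl 𝒴 Q'
  haveI := h𝒳.isStack.1
  haveI := h𝒴.isStack.1
  haveI := hQ.2.1.isStack.1
  haveI := hQ'.2.1.isStack.1
  haveI := hQ'.1
  have hW := AlgStSetoidLib.isAlgStack_fp' hQ.2.1 hQ'.2.1 h𝒴 F G
  obtain ⟨p⟩ := hQ.2.2.2.2.1
  obtain ⟨p'⟩ := hQ'.2.2.2.2.1
  haveI : IsFibGrpd (fp F G).p := isFibGrpd_fp
  obtain ⟨v, -, -⟩ := exists_point_fp (f := G) (g := F) p p' (by
    rw [hQ'.2.2.2.2.2.2 p', AlgStBig.map_comp, hQ.2.2.2.2.2.2 p])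
  rcases Groth.Agent.S16807.result S _ _ hW hQ.2.1 (FibCat.fpFst F G)
    (AlgStBig.repByAlgSpWith_fpFst _ F (isMono_subIncl h𝒴 hQ'.2.1)) k a z hzp hzs hzf with hE | hE
  · exact (hE.false v).elim
  · intro o
    obtain ⟨⟨_, _⟩, hs⟩ := (isEquivOver_iff _).mp hE
    obtain ⟨w, i, -⟩ := hs o
    exact ObjectProperty.prop_of_iso Q' (w.obj.iso.symm ≪≫ F.toFunctor.mapIso i) w.obj.snd.property

end ResGerbeLib
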