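import Groth.Agent.ResGerbeLib.Substack2

/-! Existence of the reduced closed substack on a closed set of points. -/

set_option autoImplicit false
set_option linter.all false
set_option backward.isDefEq.respectTransparency false
set_option backward.isDefEq.respectTransparency.types false

universe u

open CategoryTheory CategoryTheory.Limits AlgebraicGeometry Opposite AlgSp FibCat FibLib AlgSpLib TopologicalSpace
open CategoryTheory.Functor (Fiber)
open AlgStLib AlgStBig AlgSpRegLib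

namespace ResGerbeLib

variable {S : Scheme.{u}} {𝒳 : AlgSt.Cat S}

theorem exists_reduced_closedSubstack (h𝒳 : AlgSt.IsAlgStack Scheme.fppfPrecoverage 𝒳)
    (T : Set (AlgSt.Points 𝒳)) (hT : IsClosed T) :
    ∃ Q : 𝒳.obj → Prop, AlgSt.IsClosedSubstack 𝒳 Q Scheme.fppfPrecoverage ∧
      Set.range (AlgSt.Points.map (AlgSt.subIncl 𝒳 Q)) = T ∧
      AlgSt.SmoothLocally (fun X => AlgebraicGeometry.IsReduced X) (AlgSt.fullSub 𝒳 Q) := by
  haveI := h𝒳.isStack.1
  obtain ⟨U, x, hx, hxs⟩ := h𝒳.atlas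
  haveI : IsFibGrpd (AlgSt.ofSch U).p := Stk.isFibGrpd_ofPsh _
  let w := BasedFunctor.comp (AlgSt.toOverCat U) x
  have hw := repByAlgSpWith_toOverCat_comp hx
  have hws := repByAlgSpWith_toOverCat_comp hxs
  let C : Closeds U.left := ⟨(fun y => ptMap w (Points.schemeHomeo U y)) ⁻¹' T,
    hT.preimage ((continuous_ptMap h𝒳.atlas (IsAlgSpace.yon_obj U) w).comp (Points.schemeHomeo U).continuous)⟩
  let I := Scheme.IdealSheafData.vanishingIdeal C
  have hI : Inv w I := inv_vanishingIdeal w hw T C fun y => Iff.rfl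
  have hcl := isClosedImm_cut w hw hws hI
  haveI hgr : IsFibGrpd (AlgSt.fullSub 𝒳 (Cut w I)).p := isFibGrpd_fullSub fun _ _ m h => cut_of_hom m h
  have hA : AlgSt.IsAlgStack Scheme.fppfPrecoverage (AlgSt.fullSub 𝒳 (Cut w I)) :=
    isAlgStack_of_rep (isStack_of_repByAlgSp1 h𝒳.isStack (repByAlgSp1_of_with hcl)) h𝒳 (repByAlgSp1_of_with hcl)
  -- the chart of the substack
  let UI := subOver U I
  haveI := mono_subι U I
  haveI : Mono ((yon S).map (subι U I)) := inferInstance
  obtain ⟨e, he, ⟨β⟩⟩ := along_of_criterion (w := w) (I := I) (u := w) ((yon S).map (subι U I)) fun {T'} g => by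
    rw [cut_pt_iff hI g, ← factor_subι]
    exact ⟨fun ⟨l, h⟩ => ⟨(yon S).map l, by rw [← Functor.map_comp, h]⟩, fun ⟨l, h⟩ => by
      obtain ⟨l, rfl⟩ := (yon S).map_surjective l
      exact ⟨l, (yon S).map_injective (by rw [Functor.map_comp, h])⟩⟩
  haveI : IsFibGrpd (AlgSt.ofSch UI).p := Stk.isFibGrpd_ofPsh _
  haveI : IsFibGrpd (overCat UI).p := AlgStBig.isFibGrpd_overCat UI
  haveI : IsFibGrpd (fp (AlgSt.subIncl 𝒳 (Cut w I)) w).p := isFibGrpd_fp
  haveI : IsFibGrpd (fp w (AlgSt.subIncl 𝒳 (Cut w I))).p := isFibGrpd_fp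
  let k : AlgSt.ofSch UI ⥤ᵇ AlgSt.fullSub 𝒳 (Cut w I) :=
    BasedFunctor.comp e (FibCat.fpSnd w (AlgSt.subIncl 𝒳 (Cut w I)))
  let xk : overCat UI ⥤ᵇ AlgSt.fullSub 𝒳 (Cut w I) := BasedFunctor.comp (AlgSt.ofOverCat UI) k
  have hk : ∀ {P : MorphismProperty (Sp S)}, AlgSt.RepByAlgSpWith P w →
      AlgSt.RepByAlgSpWith P k ∧ AlgSt.RepByAlgSpWith P xk := fun {P} hP => by
    have h1 : AlgSt.RepByAlgSpWith P k :=
      (repByAlgSpWith_square_iff (f := FibCat.fpFst (AlgSt.subIncl 𝒳 (Cut w I)) w) (f' := k)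
        (a := BasedFunctor.comp e (fpSwap w (AlgSt.subIncl 𝒳 (Cut w I)))) (b := BasedFunctor.id _)
        (isEquivOver_comp he (isEquivOver_fpSwap _ _)) (isEquivOver_id _) (eqToIso rfl) P).mp
        (AlgStBig.repByAlgSpWith_fpFst P _ hP)
    exact ⟨h1, (repByAlgSpWith_square_iff (f := xk) (f' := k) (a := AlgSt.toOverCat UI) (b := BasedFunctor.id _)
      (isEquivOver_toOverCat UI) (isEquivOver_id _) (eqToIso rfl) P).mpr h1⟩
  haveI : AlgebraicGeometry.IsReduced UI.left := DevissLib.isReduced_vanishingIdeal' _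
  refine ⟨Cut w I, ⟨inferInstance, hA, hcl⟩, ?_,
    smoothLocally_of_chart smLocalProp_isReduced (hk hw).2 (hk hws).2 inferInstance⟩
  have key : ∀ z : UI.left, AlgSt.Points.map (AlgSt.subIncl 𝒳 (Cut w I))
      (AlgSt.Points.map k ((ptsEquiv _).symm (Points.schemeHomeo UI z))) =
      ptMap w (Points.schemeHomeo U ((subι U I).left z)) := fun z => by
    have α : BasedFunctor.comp k (AlgSt.subIncl 𝒳 (Cut w I)) ≅
        BasedFunctor.comp (Stk.ofPshMap ((yon S).map (subι U I)).hom) w :=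
      (whiskerLeftIso' e (fpIso w (AlgSt.subIncl 𝒳 (Cut w I)))).symm ≪≫ whiskerRightIso' β w
    rw [← AlgStBig.map_comp, AlgStBig.map_congr α]
    show ptMap (BasedFunctor.comp (Stk.ofPshMap ((yon S).map (subι U I)).hom) w) (Points.schemeHomeo UI z) = _
    rw [AlgStBig.ptMap_comp, Function.comp_apply, Points.map_yon_map_apply]
  have hr : Set.range (subι U I).left = (C : Set U.left) := by
    show Set.range I.subschemeι = _
    rw [Scheme.IdealSheafData.range_subschemeι, Scheme.IdealSheafData.coe_support_vanishingIdeal]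
  ext t
  constructor
  · rintro ⟨p, rfl⟩
    obtain ⟨q, rfl⟩ := surjective_of_repByAlgSpWith (hk hws).1 p
    obtain ⟨q, rfl⟩ := (ptsEquiv _).symm.surjective q
    obtain ⟨z, rfl⟩ := (Points.schemeHomeo UI).surjective q
    rw [key]
    have : (subι U I).left z ∈ (C : Set U.left) := hr ▸ ⟨z, rfl⟩
    exact this
  · intro ht
    obtain ⟨y, hy⟩ := surjective_of_repByAlgSpWith hws t
    obtain ⟨y, rfl⟩ := (ptsEquiv _).symm.surjective y
    obtain ⟨y, rfl⟩ := (Points.schemeHomeo U).surjective y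
    have hyC : y ∈ Set.range (subι U I).left := by
      rw [hr]
      show ptMap w (Points.schemeHomeo U y) ∈ T
      rw [show ptMap w (Points.schemeHomeo U y) = t from hy]
      exact ht
    obtain ⟨z, rfl⟩ := hyC
    exact ⟨_, (key z).trans hy⟩

end ResGerbeLib
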