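import Groth.Agent.AlgSpRegLib.CutByApps
import Groth.Agent.S10104
import Groth.Agent.AlgStBig.Descent

/-! Closed subspaces from invariant closed subschemes of a smooth chart. -/

set_option autoImplicit false
set_option linter.all false
set_option backward.isDefEq.respectTransparency false
set_option backward.isDefEq.respectTransparency.types false

universe u

open CategoryTheory CategoryTheory.Limits AlgebraicGeometry Opposite AlgSp AlgSpLib TopologicalSpace

namespace ResGerbeLib

open AlgSpRegLib AlgStBig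

/-- The vanishing ideal pulls back to the vanishing ideal along smooth morphisms. -/
theorem comap_vanishingIdeal_smooth {X' X : Scheme.{u}} (g : X' ⟶ X) [Smooth g] (C : Closeds X) :
    (Scheme.IdealSheafData.vanishingIdeal C).comap g =
      Scheme.IdealSheafData.vanishingIdeal ⟨g ⁻¹' C, C.isClosed.preimage g.continuous⟩ := by
  let I := Scheme.IdealSheafData.vanishingIdeal C
  haveI : IsReduced I.subscheme := DevissLib.isReduced_vanishingIdeal' _
  let pr := pullback.snd g I.subschemeι
  haveI : Smooth pr := MorphismProperty.pullback_snd (P := @Smooth) _ _ ‹_›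
  haveI : IsReduced (pullback g I.subschemeι) := AlgSpLib.isReduced_of_smooth pr
  haveI : IsReduced (I.comap g).subscheme :=
    isReduced_of_isOpenImmersion (Scheme.IdealSheafData.comapIso I g).hom
  rw [eq_vanishingIdeal_support (I.comap g), Scheme.IdealSheafData.support_comap]
  congr 1

variable {S : Scheme.{u}}

/-- Representable morphisms of sheaves are representable by algebraic spaces. -/
theorem repBySpWith_of_repWith {Q : MorphismProperty (Sp S)} {P : MorphismProperty Scheme.{u}}
    {F G : Sp S} {a : F ⟶ G} (ha : RepWith P a)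
    (hQ : ∀ {W U : Over S} (r : W ⟶ U), P r.left → Q ((yon S).map r))
    (hQi : StableBC Q) : RepBySpWith Q a.hom := by
  intro U ξ F' fst snd sq
  let ξ' : (yon S).obj U ⟶ G := ObjectProperty.homMk ξ
  obtain ⟨W, r, t, sq'⟩ := ha.rep ξ'
  have hP : P r.left := ha.property ξ' t r sq'
  have sqP : IsPullback t.hom ((yon S).map r).hom a.hom ξ := sq'.map (sheafToPresheaf (J S) _)
  let i : F' ≅ ((yon S).obj W).obj := sq.isoIsPullback _ _ sqP
  have hs : Presheaf.IsSheaf (J S) F' := (Presheaf.isSheaf_of_iso_iff i).2 ((yon S).obj W).property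
  let i' : (⟨F', hs⟩ : Sp S) ≅ (yon S).obj W := (fullyFaithfulSheafToPresheaf (J S) _).preimageIso i
  refine ⟨hs, (IsAlgSpace.yon_obj W).of_iso i'.symm, ?_⟩
  have e0 : (ObjectProperty.homMk snd : (⟨F', hs⟩ : Sp S) ⟶ (yon S).obj U) = i'.hom ≫ (yon S).map r :=
    ObjectProperty.hom_ext _ (sq.isoIsPullback_hom_snd _ _ sqP).symm
  rw [e0]
  exact hQi.precomp_iso i' _ (IsAlgSpace.yon_obj W) (IsAlgSpace.yon_obj U) (hQ r hP)

/-- An invariant closed subscheme of a smooth chart descends to a closed subspace. -/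
theorem exists_closedSub_smooth {V W : Over S} (φ : W ⟶ V) [Smooth φ.left] [Surjective φ.left]
    (I : W.left.IdealSheafData)
    (hinv : ∀ (T : Over S) (r s : T ⟶ W), r ≫ φ = s ≫ φ → I.comap r.left = I.comap s.left) :
    ∃ (Z : Sp S) (i : Z ⟶ (yon S).obj V) (z : (yon S).obj (subOver W I) ⟶ Z), IsAlgSpace Z ∧
      RepWith @IsClosedImmersion i ∧ IsPullback z ((yon S).map (subι W I)) i ((yon S).map φ) ∧
      Sheaf.IsLocallySurjective z := by
  let a := (yon S).map (subι W I) ≫ (yon S).map φ
  haveI := mono_subι W I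
  haveI : Mono ((yon S).map (subι W I)) := inferInstance
  haveI : Epi (Sheaf.toImage a) := inferInstance
  haveI hz : Sheaf.IsLocallySurjective (Sheaf.toImage a) := (Sheaf.isLocallySurjective_iff_epi _).mpr ‹_›
  have sq : IsPullback (Sheaf.toImage a) ((yon S).map (subι W I)) (Sheaf.imageι a) ((yon S).map φ) := by
    refine isPullback_of_forall_existsUnique (Sheaf.toImage_ι _) fun T x y hxy => ?_
    obtain ⟨y, rfl⟩ := (yon S).map_surjective y
    obtain ⟨C, c, h₁, h₂, h₃, hl⟩ := exists_lift_of_isLocallySurjective (Sheaf.toImage a) x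
    have hc : ∀ t, ∃ l : C t ⟶ subOver W I, l ≫ subι W I = c t ≫ y := fun t => by
      obtain ⟨l, hl⟩ := hl t
      obtain ⟨l, rfl⟩ := (yon S).map_surjective l
      have := congrArg (· ≫ Sheaf.imageι a) hl
      simp only [Category.assoc, Sheaf.toImage_ι, hxy, a] at this
      simp only [← Functor.map_comp] at this
      have h := hinv _ _ _ (((Category.assoc _ _ _).trans ((yon S).map_injective this)).trans
        (Category.assoc _ _ _).symm)
      rw [factor_subι, ← h]
      exact (factor_subι I _).1 ⟨l, rfl⟩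
    choose l hl using hc
    obtain ⟨b, hb⟩ := exists_amalgamation c h₁ h₂ (fun t => ⟨t, h₃ t⟩) (fun t => (yon S).map (l t))
      fun i j Z gi gj hg => by
        rw [← cancel_mono ((yon S).map (subι W I)), ← Functor.map_comp, ← Functor.map_comp, ← Functor.map_comp,
          ← Functor.map_comp, Category.assoc, Category.assoc, hl, hl, reassoc_of% hg]
    have hby : b ≫ (yon S).map (subι W I) = (yon S).map y := hom_ext_of_family c h₁ h₂ h₃ fun t => by
      rw [← Category.assoc, hb, ← Functor.map_comp, hl, Functor.map_comp]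
    refine ⟨b, ⟨?_, hby⟩, fun b' hb' => by rw [← cancel_mono ((yon S).map (subι W I)), hby, hb'.2]⟩
    rw [← cancel_mono (Sheaf.imageι a), Category.assoc, Sheaf.toImage_ι, hxy]
    simp only [a, reassoc_of% hby]
  let P : MorphismProperty Scheme.{u} := fun _ _ f => Smooth f ∧ Surjective f
  have hφ₁ : RepWith @Smooth ((yon S).map φ) := (repWith_yon_map_iff @Smooth φ).2 ‹_›
  have hφ₂ : RepWith @Surjective ((yon S).map φ) := (repWith_yon_map_iff @Surjective φ).2 ‹_›
  have hz₁ : RepWith @Smooth (Sheaf.toImage a) := repWith_of_isPullback sq.flip hφ₁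
  have hz₂ : RepWith @Surjective (Sheaf.toImage a) := repWith_of_isPullback sq.flip hφ₂
  have hb : StableBC (IsSurjectiveMor ⊓ LocP @Flat ⊓ LocP @LocallyOfFinitePresentation :
      MorphismProperty (Sp S)) := fun _ _ _ _ h1 h2 h3 h4 a b a' b' sq h =>
    ⟨⟨good_surjective.bc h1 h2 h3 h4 a b a' b' sq h.1.1, good_flat.bc h1 h2 h3 h4 a b a' b' sq h.1.2⟩,
      good_lfp.bc h1 h2 h3 h4 a b a' b' sq h.2⟩
  have hZ : IsAlgSpace (Sheaf.image a) := by
    refine Groth.Agent.S10104.result S _ ⟨(yon S).obj (subOver W I), IsAlgSpace.yon_obj _⟩ (Sheaf.toImage a)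
      (repBySpWith_of_repWith (P := P) ?_ (fun r h => ?_) hb)
    · exact ⟨hz₁.rep, fun ⦃_ _⦄ g q r sq => ⟨hz₁.property g q r sq, hz₂.property g q r sq⟩⟩
    · haveI := h.1
      haveI := h.2
      exact ⟨⟨map_surjective_of_repWith ((repWith_yon_map_iff @Surjective r).2 inferInstance),
        (locP_yon_map_iff r).2 inferInstance⟩, (locP_yon_map_iff r).2 inferInstance⟩
  refine ⟨_, Sheaf.imageι a, Sheaf.toImage a, hZ, ?_, sq, hz⟩
  refine repWith_imm_of_fppf (Or.inl rfl) (IsAlgSpace.yon_obj V) (fun _ : PUnit.{u + 1} => IsAlgSpace.yon_obj W)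
    (g := fun _ => (yon S).map φ)
    ⟨fun _ => ⟨(locP_yon_map_iff φ).2 inferInstance, (locP_yon_map_iff φ).2 inferInstance⟩,
      fun x => ⟨⟨⟩, map_surjective_of_repWith hφ₂ x⟩⟩ hZ (fun _ => sq) fun _ => ?_
  exact (repWith_yon_map_iff _ _).2 (inferInstanceAs (IsClosedImmersion I.subschemeι))

end ResGerbeLib
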