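import Groth.Agent.ResGerbeLib.Compare

/-! The comparison of residual gerbes when the self-products of a point agree. -/

set_option autoImplicit false
set_option linter.all false
set_option backward.isDefEq.respectTransparency false
set_option backward.isDefEq.respectTransparency.types false

universe u

open CategoryTheory CategoryTheory.Limits AlgebraicGeometry Opposite AlgSp FibCat FibLib AlgSpLib
open CategoryTheory.Functor (Fiber)
open AlgStLib AlgStBig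

namespace ResGerbeLib

variable {S : Scheme.{u}} {𝒳 𝒴 : AlgSt.Cat S}

local notation "Isos" => MorphismProperty.isomorphisms (AlgSp.Sp _)

/-- The comparison of self-products computed in the substacks. -/
theorem isEquivOver_magicFst {T : Over S} {f : 𝒳 ⥤ᵇ 𝒴} {Q : 𝒳.obj → Prop} {Q' : 𝒴.obj → Prop}
    [IsFibGrpd 𝒳.p] [IsFibGrpd 𝒴.p] [IsFibGrpd (AlgSt.fullSub 𝒳 Q).p] [IsFibGrpd (AlgSt.fullSub 𝒴 Q').p]
    (p : overCat T ⥤ᵇ 𝒳) (h : ∀ o, Q (p.obj o)) (h' : ∀ o : (AlgSt.fullSub 𝒳 Q).obj, Q' (f.obj o.obj))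
    (e : BasedFunctor.comp (FibCat.fpFst p p) (BasedFunctor.comp p f) ≅
      BasedFunctor.comp (FibCat.fpSnd p p) (BasedFunctor.comp p f))
    (he : ∀ c, e.hom.toNatTrans.app c = f.map c.obj.iso.hom)
    (hiso : IsEquivOver (fpLift (FibCat.fpFst p p) (FibCat.fpSnd p p) e)) :
    IsEquivOver (BasedFunctor.comp
      (fpMagic (liftSub (Q := Q) p h) (liftSub p h) (liftSub (Q := Q') (BasedFunctor.comp (AlgSt.subIncl 𝒳 Q) f) h'))
      (FibCat.fpFst (fpPair (liftSub p h) (liftSub p h) (liftSub (BasedFunctor.comp (AlgSt.subIncl 𝒳 Q) f) h'))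
        (diag (liftSub (BasedFunctor.comp (AlgSt.subIncl 𝒳 Q) f) h')))) := by
  let q := liftSub (Q := Q) p h
  let g := liftSub (Q := Q') (BasedFunctor.comp (AlgSt.subIncl 𝒳 Q) f) h'
  let K : fp q q ⥤ᵇ fp (BasedFunctor.comp q g) (BasedFunctor.comp q g) :=
    BasedFunctor.comp (fpMagic q q g) (FibCat.fpFst (fpPair q q g) (diag g))
  show IsEquivOver K
  let L := fpLift (FibCat.fpFst p p) (FibCat.fpSnd p p) e
  obtain ⟨⟨_, _⟩, hL⟩ := (isEquivOver_iff L).mp hiso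
  haveI := AlgStBig.isFibGrpd_overCat T
  haveI : IsFibGrpd (fp q q).p := isFibGrpd_fp
  haveI : IsFibGrpd (fp (BasedFunctor.comp q g) (BasedFunctor.comp q g)).p := isFibGrpd_fp
  -- passing to the ambient stacks
  let ι₁ : ∀ c : (fp q q).obj, (fp p p).obj := fun c =>
    fpObj c.obj.fst c.obj.snd ((AlgSt.subIncl 𝒳 Q).toFunctor.mapIso c.obj.iso) (by
      exact @BasedFunctor.preserves_isHomLift _ _ _ _ (AlgSt.subIncl 𝒳 Q) _ _ _ _
        (𝟙 ((overCat T).p.obj c.obj.fst)) c.obj.iso.hom c.property)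
  haveI : K.toFunctor.Faithful := ⟨fun {x y φ ψ} hk =>
    fp_hom_ext (congrArg (fun t => t.hom.fst) hk) (congrArg (fun t => t.hom.snd) hk)⟩
  haveI : K.toFunctor.Full := ⟨fun {x y} k => by
    have w₀ : (g.map (q.map k.hom.fst) ≫ g.map y.obj.iso.hom).hom =
        (g.map x.obj.iso.hom ≫ g.map (q.map k.hom.snd)).hom := congrArg (fun t => t.hom) k.hom.w
    let k' : L.obj (ι₁ x) ⟶ L.obj (ι₁ y) := fpHom k.hom.fst k.hom.snd (by
      change f.map (p.map k.hom.fst) ≫ e.hom.toNatTrans.app (ι₁ y) =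
        e.hom.toNatTrans.app (ι₁ x) ≫ f.map (p.map k.hom.snd)
      rw [he, he]
      exact w₀)
    obtain ⟨φ, hφ⟩ := L.toFunctor.map_surjective k'
    have h1 : φ.hom.fst = k.hom.fst := congrArg (fun t => t.hom.fst) hφ
    have h2 : φ.hom.snd = k.hom.snd := congrArg (fun t => t.hom.snd) hφ
    refine ⟨fpHom k.hom.fst k.hom.snd (ObjectProperty.hom_ext _ ?_), fp_hom_ext rfl rfl⟩
    have hw := φ.hom.w
    rw [h1, h2] at hw
    exact hw⟩
  refine isEquivOver_of_vertEssSurj K fun ξ => ?_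
  let θ : f.obj (p.obj ξ.obj.fst) ≅ f.obj (p.obj ξ.obj.snd) := (AlgSt.subIncl 𝒴 Q').toFunctor.mapIso ξ.obj.iso
  let η : (fp (BasedFunctor.comp p f) (BasedFunctor.comp p f)).obj := fpObj ξ.obj.fst ξ.obj.snd θ (by
    exact @BasedFunctor.preserves_isHomLift _ _ _ _ (AlgSt.subIncl 𝒴 Q') _ _ _ _
      (𝟙 ((overCat T).p.obj ξ.obj.fst)) ξ.obj.iso.hom ξ.property)
  obtain ⟨o, j, hj⟩ := hL η
  let iso₀ : q.obj o.obj.fst ≅ q.obj o.obj.snd := ObjectProperty.isoMk Q o.obj.iso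
  let o' : (fp q q).obj := fpObj o.obj.fst o.obj.snd iso₀ (by
    haveI := o.property
    exact IsHomLift.of_fac _ _ _ (p.w_obj o.obj.fst)
      (@IsHomLift.codomain_eq _ _ _ _ 𝒳.p _ _ _ _ (𝟙 ((overCat T).p.obj o.obj.fst)) o.obj.iso.hom o.property)
      (@IsHomLift.fac _ _ _ _ 𝒳.p _ _ _ _ (𝟙 ((overCat T).p.obj o.obj.fst)) o.obj.iso.hom o.property))
  let j₁ : o.obj.fst ≅ ξ.obj.fst := (FibCat.fpFst _ _).toFunctor.mapIso j
  let j₂ : o.obj.snd ≅ ξ.obj.snd := (FibCat.fpSnd _ _).toFunctor.mapIso j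
  have hw := j.hom.hom.w
  change f.map (p.map j.hom.hom.fst) ≫ θ.hom = e.hom.toNatTrans.app o ≫ f.map (p.map j.hom.hom.snd) at hw
  rw [he] at hw
  let J : K.obj o' ≅ ξ := fpIsoMk (x := K.obj o') (y := ξ) j₁ j₂ (ObjectProperty.hom_ext _ hw)
  refine ⟨o', J, ?_⟩
  haveI : (overCat T).p.IsHomLift (𝟙 ((fp (BasedFunctor.comp q g) (BasedFunctor.comp q g)).p.obj ξ)) J.hom.hom.fst := by
    exact @BasedFunctor.preserves_isHomLift _ _ _ _ (FibCat.fpFst (BasedFunctor.comp p f) (BasedFunctor.comp p f))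
      _ _ _ _ (𝟙 ((fp (BasedFunctor.comp p f) (BasedFunctor.comp p f)).p.obj η)) j.hom hj
  exact isHomLift_of_fst _ J.hom

/-- Charts coming from a morphism of schemes. -/
theorem repByAlgSpWith_ofSchMap {P : MorphismProperty (Sp S)} (hP : StableBC P) {T T' : Over S} (β : T' ⟶ T)
    (b : AlgSt.ofSch T' ⥤ᵇ AlgSt.ofSch T) (ι : b ≅ AlgSt.ofSpMap ((yon S).map β)) (h : P ((yon S).map β)) :
    AlgSt.RepByAlgSpWith P b :=
  repByAlgSpWith_congr ι.symm (repByAlgSpWith_ofSpMap (IsAlgSpace.yon_obj T') (IsAlgSpace.yon_obj T) _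
    fun U ξ => hP (IsAlgSpace.yon_obj T') (IsAlgSpace.yon_obj T)
      (isAlgSpace_pullback (IsAlgSpace.yon_obj T') (IsAlgSpace.yon_obj U) (IsAlgSpace.yon_obj T) _ ξ)
      (IsAlgSpace.yon_obj U) _ _ _ _ (IsPullback.of_hasPullback _ ξ) h)

/-- The induced map of residual gerbes is fully faithful when it is so on the self-product of a point. -/
theorem isEquivOver_diag_of_fieldPts {𝒵 𝒵' : AlgSt.Cat S} (h𝒵 : AlgSt.IsAlgStack Scheme.fppfPrecoverage 𝒵)
    (h𝒵' : AlgSt.IsAlgStack Scheme.fppfPrecoverage 𝒵') (hsub : Subsingleton (AlgSt.Points 𝒵)) (g : 𝒵 ⥤ᵇ 𝒵')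
    {k : Type u} [Field k] {a : Spec (CommRingCat.of k) ⟶ S} (q : overCat (Over.mk a) ⥤ᵇ 𝒵)
    (hq : IsEquivOver (BasedFunctor.comp (fpMagic q q g) (FibCat.fpFst (fpPair q q g) (diag g))))
    {k' : Type u} [Field k'] {a' : Spec (CommRingCat.of k') ⟶ S} (z : overCat (Over.mk a') ⥤ᵇ 𝒵)
    (hzp : AlgSt.RepByAlgSpWith (LocP @LocallyOfFinitePresentation) z)
    (hzs : AlgSt.RepByAlgSpWith IsSurjectiveMor z) (hzf : AlgSt.RepByAlgSpWith (LocP @Flat) z) :
    AlgSt.RepByAlgSpWith Isos (diag g) := by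
  haveI := h𝒵.isStack.1
  haveI := h𝒵'.isStack.1
  haveI := AlgStBig.isFibGrpd_overCat (Over.mk a)
  haveI := AlgStBig.isFibGrpd_overCat (Over.mk a')
  haveI : IsFibGrpd (fp g g).p := isFibGrpd_fp
  haveI : IsFibGrpd (fp q q).p := isFibGrpd_fp
  haveI : IsFibGrpd (fp (BasedFunctor.comp q g) (BasedFunctor.comp q g)).p := isFibGrpd_fp
  haveI : IsFibGrpd (fp (fpPair q q g) (diag g)).p := isFibGrpd_fp
  -- the hypothesis over `k`
  have h₀ : AlgSt.RepByAlgSpWith Isos (FibCat.fpFst (fpPair q q g) (diag g)) :=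
    (repByAlgSpWith_square_iff (f := FibCat.fpFst (fpPair q q g) (diag g))
      (f' := BasedFunctor.comp (fpMagic q q g) (FibCat.fpFst (fpPair q q g) (diag g))) (a := fpMagic q q g)
      (b := BasedFunctor.id _) (isEquivOver_fpMagic q q g) (isEquivOver_id _) (eqToIso rfl) Isos).mpr
      (repByAlgSpWith_isIso_of_isEquivOver hq)
  -- the fppf chart
  let z' : AlgSt.ofSch (Over.mk a') ⥤ᵇ 𝒵 := BasedFunctor.comp (AlgSt.toOverCat _) z
  haveI : IsFibGrpd (AlgSt.ofSch (Over.mk a')).p := Stk.isFibGrpd_ofPsh _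
  haveI : IsFibGrpd (fp (BasedFunctor.comp z' g) (BasedFunctor.comp z' g)).p := isFibGrpd_fp
  have P1 := repByAlgSpWith_pairBoth z' z' g g good_flat (repByAlgSpWith_toOverCat_comp hzf)
    (repByAlgSpWith_toOverCat_comp hzf)
  have P2 := repByAlgSpWith_pairBoth z' z' g g good_lfp (repByAlgSpWith_toOverCat_comp hzp)
    (repByAlgSpWith_toOverCat_comp hzp)
  have P3 := repByAlgSpWith_pairBoth z' z' g g good_surjective (repByAlgSpWith_toOverCat_comp hzs)
    (repByAlgSpWith_toOverCat_comp hzs)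
  refine repByAlgSpWith_of_fppf_cover Groth.Agent.S16807.stableBC_isomorphisms
    (isLocalOnBase_fppf_of_fpqc (isLocalOnBase_fpqc_isomorphisms S))
    (AlgStBig.repByAlgSp1_diag h𝒵 h𝒵' g) (z := pairBoth z' z' g g) P1 P2 P3 ?_
  -- a common extension of the two fields
  haveI : IsFibGrpd (fp z' q).p := isFibGrpd_fp
  obtain ⟨v₀, -, -⟩ := exists_point_fp (f := q) (g := z')
    ((ptsEquiv _).symm (Points.schemeHomeo _ (IsLocalRing.closedPoint k')))
    (AlgSt.Points.ofChart (BasedFunctor.id (overCat (Over.mk a))) (IsLocalRing.closedPoint k))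
    (Subsingleton.elim _ _)
  obtain ⟨r, rfl⟩ := AlgSt.Points.mk_surjective v₀
  let T'' : Over S := Over.mk r.str
  haveI : IsFibGrpd (AlgSt.ofSch T'').p := Stk.isFibGrpd_ofPsh _
  let v : AlgSt.ofSch T'' ⥤ᵇ fp z' q :=
    BasedFunctor.comp (AlgSt.toOverCat T'') (ofPoint (Functor.Fiber.mk (p := (fp z' q).p) (a := r.obj) r.lies))
  let b₁ := BasedFunctor.comp v (FibCat.fpFst z' q)
  let b₂ := BasedFunctor.comp v (FibCat.fpSnd z' q)
  have α : BasedFunctor.comp b₁ z' ≅ BasedFunctor.comp b₂ q := whiskerLeftIso' v (fpIso z' q)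
  obtain ⟨ι⟩ := nonempty_iso_mapOf b₁
  obtain ⟨β, hβ⟩ := (yon S).map_surjective (ObjectProperty.homMk (mapOf b₁) :
    (yon S).obj T'' ⟶ (yon S).obj (Over.mk a'))
  have ι' : b₁ ≅ AlgSt.ofSpMap ((yon S).map β) := by rw [hβ]; exact ι
  haveI : IsAffine T''.left := inferInstanceAs (IsAffine (Spec _))
  haveI : IsAffine (Over.mk a').left := inferInstanceAs (IsAffine (Spec (CommRingCat.of k')))
  haveI : Subsingleton ↥(Over.mk a').left := inferInstanceAs (Subsingleton (PrimeSpectrum k'))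
  haveI : IsIntegral (Over.mk a').left := inferInstanceAs (IsIntegral (Spec (CommRingCat.of k')))
  haveI : Flat β.left := inferInstance
  haveI : Surjective β.left := ⟨fun x => ⟨(IsLocalRing.closedPoint r.K : ↥(Spec (CommRingCat.of r.K))), Subsingleton.elim _ _⟩⟩
  have hb₁ : AlgSt.RepByAlgSpWith (LocP @Flat) b₁ :=
    repByAlgSpWith_ofSchMap good_flat.bc β b₁ ι' ((locP_yon_map_iff β).2 inferInstance)
  have hb₂ : AlgSt.RepByAlgSpWith IsQuasiCompactMor b₁ :=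
    repByAlgSpWith_ofSchMap good_qc.bc β b₁ ι' (isQuasiCompactMor_of_repWith (IsAlgSpace.yon_obj T'')
      (IsAlgSpace.yon_obj _) ((repWith_yon_map_iff @QuasiCompact β).2 inferInstance))
  have hb₃ : AlgSt.RepByAlgSpWith IsSurjectiveMor b₁ :=
    repByAlgSpWith_ofSchMap good_surjective.bc β b₁ ι'
      (map_surjective_of_repWith ((repWith_yon_map_iff @Surjective β).2 inferInstance))
  haveI : IsFibGrpd (fp (pairBoth z' z' g g) (diag g)).p := isFibGrpd_fp
  let A := pairBoth b₁ b₁ (BasedFunctor.comp z' g) (BasedFunctor.comp z' g)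
  haveI : IsFibGrpd (fp (BasedFunctor.comp b₁ (BasedFunctor.comp z' g))
    (BasedFunctor.comp b₁ (BasedFunctor.comp z' g))).p := isFibGrpd_fp
  refine repByAlgSpWith_isIso_of_fpqc_cover
    (repByAlgSp1_of_with (repByAlgSpWith_fpFst ⊤ _ ((repByAlgSp1_iff_with_top _).mp (AlgStBig.repByAlgSp1_diag h𝒵 h𝒵' g))))
    (z := A) (repByAlgSpWith_pairBoth b₁ b₁ _ _ good_flat hb₁ hb₁)
    (repByAlgSpWith_pairBoth b₁ b₁ _ _ good_qc hb₂ hb₂)
    (repByAlgSpWith_pairBoth b₁ b₁ _ _ good_surjective hb₃ hb₃) ?_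
  refine repByAlgSpWith_fpFst_paste A ?_
  let γ : BasedFunctor.comp b₂ (BasedFunctor.comp q g) ≅
      BasedFunctor.comp (BasedFunctor.comp b₁ (BasedFunctor.comp z' g)) (BasedFunctor.id 𝒵') :=
    whiskerRightIso' α.symm g
  let B : fp (BasedFunctor.comp b₁ (BasedFunctor.comp z' g)) (BasedFunctor.comp b₁ (BasedFunctor.comp z' g)) ⥤ᵇ
      fp (BasedFunctor.comp q g) (BasedFunctor.comp q g) := fpMap γ γ
  refine repByAlgSpWith_fpFst_congr (g := BasedFunctor.comp B (fpPair q q g)) ?_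
    (repByAlgSpWith_fpFst_comp B h₀)
  refine fpIsoExt _ _ (whiskerLeftIso' (FibCat.fpFst _ _) α).symm (whiskerLeftIso' (FibCat.fpSnd _ _) α).symm
    fun x => ?_
  have hx : ((BasedFunctor.comp B (fpPair q q g)).obj x).obj.iso.hom =
      g.map (appIso α x.obj.fst).inv ≫ x.obj.iso.hom ≫ g.map (appIso α x.obj.snd).hom := by
    change 𝟙 _ ≫ (g.map (appIso α x.obj.fst).inv ≫ x.obj.iso.hom ≫ g.map (appIso α x.obj.snd).hom) ≫ 𝟙 _ = _
    rw [Category.comp_id, Category.id_comp]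
  have hA : ((BasedFunctor.comp A (pairBoth z' z' g g)).obj x).obj.iso.hom = x.obj.iso.hom := by
    change 𝟙 _ ≫ (𝟙 _ ≫ x.obj.iso.hom ≫ 𝟙 _) ≫ 𝟙 _ = _
    simp
  rw [hx, hA]
  show g.map (appIso α x.obj.fst).inv ≫ x.obj.iso.hom =
    (g.map (appIso α x.obj.fst).inv ≫ x.obj.iso.hom ≫ g.map (appIso α x.obj.snd).hom) ≫
      g.map (appIso α x.obj.snd).inv
  simp only [Category.assoc, ← g.toFunctor.map_comp, Iso.hom_inv_id, g.toFunctor.map_id]
  erw [Category.comp_id]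

end ResGerbeLib
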