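import Groth.Agent.ResGerbeLib.Basic
import Groth.Agent.AlgStBig.Substack
import Groth.Agent.S16807

/-! Factorisation through monomorphisms with one-point source. -/

set_option autoImplicit false
set_option linter.all false
set_option backward.isDefEq.respectTransparency false
set_option backward.isDefEq.respectTransparency.types false

universe u

open CategoryTheory CategoryTheory.Limits AlgebraicGeometry Opposite AlgSp FibCat FibLib AlgSpLib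
open CategoryTheory.Functor (Fiber)
open AlgStLib AlgStBig

namespace ResGerbeLib

variable {S : Scheme.{u}} {𝒳 : AlgSt.Cat S} {Q : 𝒳.obj → Prop}

/-- A functor all of whose values lie in `Q` factors through the full subcategory. -/
def liftSub {𝒲 : AlgSt.Cat S} (p : 𝒲 ⥤ᵇ 𝒳) (h : ∀ o, Q (p.obj o)) : 𝒲 ⥤ᵇ AlgSt.fullSub 𝒳 Q where
  toFunctor := ObjectProperty.lift Q p.toFunctor h
  w := p.w

theorem exists_factor {𝒲 : AlgSt.Cat S} (p : 𝒲 ⥤ᵇ 𝒳) (h : ∀ o, Q (p.obj o)) :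
    ∃ q : 𝒲 ⥤ᵇ AlgSt.fullSub 𝒳 Q, Nonempty (BasedFunctor.comp q (AlgSt.subIncl 𝒳 Q) ≅ p) :=
  ⟨liftSub p h, ⟨eqToIso rfl⟩⟩

/-- The inclusion of an algebraic full subcategory is a monomorphism. -/
theorem isMono_subIncl (h𝒳 : AlgSt.IsAlgStack Scheme.fppfPrecoverage 𝒳)
    (hQ : AlgSt.IsAlgStack Scheme.fppfPrecoverage (AlgSt.fullSub 𝒳 Q)) : AlgSt.IsMono (AlgSt.subIncl 𝒳 Q) := by
  haveI : (AlgSt.subIncl 𝒳 Q).toFunctor.Full := inferInstanceAs (ObjectProperty.ι Q).Full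
  haveI : (AlgSt.subIncl 𝒳 Q).toFunctor.Faithful := inferInstanceAs (ObjectProperty.ι Q).Faithful
  exact AlgStSetoidLib.isMono_of_full_faithful hQ h𝒳 _

/-- A field point hitting the image of an algebraic full subcategory lies in it. -/
theorem mem_of_fieldPt (h𝒳 : AlgSt.IsAlgStack Scheme.fppfPrecoverage 𝒳)
    [ObjectProperty.IsClosedUnderIsomorphisms Q]
    (hQ : AlgSt.IsAlgStack Scheme.fppfPrecoverage (AlgSt.fullSub 𝒳 Q))
    {K : Type u} [Field K] {a : Spec (CommRingCat.of K) ⟶ S} (p : overCat (Over.mk a) ⥤ᵇ 𝒳)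
    (t : ↥(Over.mk a).left)
    (hp : AlgSt.Points.ofChart p t ∈ Set.range (AlgSt.Points.map (AlgSt.subIncl 𝒳 Q))) :
    ∀ o, Q (p.obj o) := by
  haveI := h𝒳.isStack.1
  haveI := hQ.isStack.1
  haveI : IsFibGrpd (AlgSt.ofSch (Over.mk a)).p := Stk.isFibGrpd_ofPsh _
  let u : AlgSt.ofSch (Over.mk a) ⥤ᵇ 𝒳 := BasedFunctor.comp (AlgSt.toOverCat _) p
  haveI : IsFibGrpd (fp u (AlgSt.subIncl 𝒳 Q)).p := isFibGrpd_fp
  obtain ⟨H, m, hH, ⟨e, he, ⟨β⟩⟩, hm⟩ := (repByAlgSpWith_iff _ _).mp (isMono_subIncl h𝒳 hQ) (Over.mk a) u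
  haveI : Mono m := hm
  obtain ⟨z, hz⟩ := hp
  obtain ⟨v, -, -⟩ := exists_point_fp (f := AlgSt.subIncl 𝒳 Q) (g := u)
    ((ptsEquiv _).symm (Points.schemeHomeo _ t)) z hz.symm
  obtain ⟨r, rfl⟩ := AlgSt.Points.mk_surjective v
  obtain ⟨⟨_, _⟩, hE⟩ := (isEquivOver_iff e).mp he
  obtain ⟨o, i, -⟩ := hE r.obj
  have i' : o.base ≅ Over.mk r.str :=
    eqToIso (e.w_obj o).symm ≪≫ (FibCat.fp u (AlgSt.subIncl 𝒳 Q)).p.mapIso i ≪≫ eqToIso r.lies
  haveI : Nonempty ↥o.base.left := ⟨i'.inv.left (IsLocalRing.closedPoint r.K)⟩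
  haveI : IsIso m := Groth.Agent.S16807.isIso_of_mono_fieldPt K a hH m ((AlgSp.J S).uliftYonedaEquiv.symm o.sec)
  obtain ⟨y, ⟨l⟩⟩ := exists_section_of_mem (i := AlgSt.subIncl 𝒳 Q) (u := u) (a := m) ⟨e, he, ⟨β⟩⟩
  have h1 : Q (p.obj (Over.mk (𝟙 (Over.mk a)))) := ObjectProperty.prop_of_iso Q l.symm y.property
  intro o
  exact mem_of_hom hQ.isStack.1 (p.map (Over.homMk o.hom (Category.comp_id _) : o ⟶ Over.mk (𝟙 (Over.mk a)))) h1

end ResGerbeLib
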