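import Groth.Agent.AlgStSetoidLib.Basic
import Groth.Agent.AlgSpLib.ReducedStalk
import Groth.Agent.AlgSpLib.Iso
import Groth.Agent.AlgSpLib.Qc
import Groth.Agent.AlgStBig.Rows5

/-! Morphisms into a reduced one-point stack are flat. -/

set_option autoImplicit false
set_option linter.all false
set_option backward.isDefEq.respectTransparency false
set_option backward.isDefEq.respectTransparency.types false

universe u

open CategoryTheory CategoryTheory.Limits AlgebraicGeometry Opposite AlgSp FibCat FibLib AlgSpLib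
open CategoryTheory.Functor (Fiber)
open AlgStLib AlgStBig

namespace ResGerbeLib

/-- Flatness can be tested over the local schemes of the target. -/
theorem flat_of_forall_stalk {W U : Scheme.{u}} (f : W ⟶ U)
    (h : ∀ p : U, Flat (pullback.snd f (U.fromSpecStalk p))) : Flat f := by
  refine Flat.of_stalkMap f fun x => ?_
  let c := U.fromSpecStalk (f x)
  obtain ⟨w, hw, -⟩ := Scheme.Pullback.exists_preimage_pullback (f := f) (g := c) x
    (IsLocalRing.closedPoint _) U.fromSpecStalk_closedPoint.symm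
  haveI := h (f x)
  haveI := flat_fromSpecStalk (f x)
  let p := pullback.fst f c
  change p w = x at hw
  haveI : Flat (p ≫ f) := by rw [pullback.condition]; infer_instance
  haveI : IsIso (p.stalkMap w) := by
    have hfl : (p.stalkMap w).hom.Flat := Flat.stalkMap (f := p) w
    letI := (p.stalkMap w).hom.toAlgebra
    haveI : Module.Flat (W.presheaf.stalk (p w)) ((pullback f c).presheaf.stalk w) := hfl
    haveI : IsLocalHom (algebraMap (W.presheaf.stalk (p w)) ((pullback f c).presheaf.stalk w)) :=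
      inferInstanceAs (IsLocalHom (p.stalkMap w).hom)
    haveI := Module.FaithfullyFlat.of_flat_of_isLocalHom (A := W.presheaf.stalk (p w))
      (B := (pullback f c).presheaf.stalk w)
    exact (ConcreteCategory.isIso_iff_bijective _).2
      ⟨FaithfulSMul.algebraMap_injective (W.presheaf.stalk (p w)) ((pullback f c).presheaf.stalk w),
        p.stalkMap_surjective w⟩
  have e : f.stalkMap (p w) = (p ≫ f).stalkMap w ≫ inv (p.stalkMap w) := by
    rw [Scheme.Hom.stalkMap_comp, Category.assoc, IsIso.hom_inv_id, Category.comp_id]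
  rw [← hw]
  rw [e, CommRingCat.hom_comp]
  exact (Flat.stalkMap (p ≫ f) w).comp
    (RingHom.Flat.of_bijective ((ConcreteCategory.isIso_iff_bijective _).1 inferInstance))

/-- A maximal point of a reduced scheme has the spectrum of a field as its local scheme. -/
theorem exists_maximal_point (U : Scheme.{u}) [AlgebraicGeometry.IsReduced U] (p : U) :
    ∃ η : U, η ⤳ p ∧ Subsingleton ↥(Spec (U.presheaf.stalk η)) ∧ IsIntegral (Spec (U.presheaf.stalk η)) := by
  obtain ⟨η, hη⟩ := QuasiSober.sober (S := irreducibleComponent p) isIrreducible_irreducibleComponent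
    isClosed_irreducibleComponent
  have hmax : ∀ y : U, y ⤳ η → y = η := fun y hy => by
    have h1 : irreducibleComponent p ⊆ closure {y} := by
      rw [← hη.def]
      exact closure_minimal (Set.singleton_subset_iff.2 hy.mem_closure) isClosed_closure
    have h2 := eq_irreducibleComponent (isIrreducible_singleton.closure).isPreirreducible h1
    exact IsGenericPoint.eq (h2 : IsGenericPoint y _) hη
  have hs : Subsingleton ↥(Spec (U.presheaf.stalk η)) := ⟨fun a b => by
    refine (U.fromSpecStalk η).isEmbedding.injective ?_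
    have ha : (U.fromSpecStalk η) a ∈ Set.range (U.fromSpecStalk η) := ⟨a, rfl⟩
    have hb : (U.fromSpecStalk η) b ∈ Set.range (U.fromSpecStalk η) := ⟨b, rfl⟩
    rw [Scheme.range_fromSpecStalk] at ha hb
    exact (hmax _ ha).trans (hmax _ hb).symm⟩
  haveI := hs
  haveI : Nonempty ↥(Spec (U.presheaf.stalk η)) := ⟨IsLocalRing.closedPoint _⟩
  haveI : IrreducibleSpace ↥(Spec (U.presheaf.stalk η)) :=
    { toNonempty := inferInstance
      isPreirreducible_univ := Set.subsingleton_of_subsingleton.isPreirreducible }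
  refine ⟨η, ?_, hs, isIntegral_of_irreducibleSpace_of_isReduced _⟩
  rw [specializes_iff_mem_closure, hη.def]
  exact mem_irreducibleComponent

variable {S : Scheme.{u}} {𝒳 𝒵 : AlgSt.Cat S}

/-- A morphism to the spectrum of a field is flat. -/
theorem locP_flat_to_point {T : Over S} [Subsingleton ↥T.left] [IsIntegral T.left] {X : Sp S}
    (hX : IsAlgSpace X) (p : X ⟶ (yon S).obj T) : LocP @Flat p := by
  obtain ⟨U, a, ha, has⟩ := hX.atlas
  obtain ⟨φ, hφ⟩ := (yon S).map_surjective (a ≫ p)
  exact AlgSpLib.locP_of_chart (h₀ := φ) ha has (repWith_id _ T) (by rw [hφ, Category.comp_id])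
    (inferInstance : Flat φ.left)

/-- Two points of a chart with the same image are joined by a point of the chart of the relation. -/
theorem exists_linked [IsFibGrpd 𝒵.p] {U : Over S} (w : AlgSt.ofSch U ⥤ᵇ 𝒵)
    (hw : AlgSt.RepByAlgSpWith (LocP @Smooth) w)
    (p q : U.left) (h : ptMap w (Points.schemeHomeo U p) = ptMap w (Points.schemeHomeo U q)) :
    ∃ (R : Over S) (t s : R ⟶ U) (r : R.left), Smooth t.left ∧ t.left r = p ∧ s.left r = q ∧
      Nonempty (BasedFunctor.comp (AlgSt.ofSpMap ((yon S).map t)) w ≅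
        BasedFunctor.comp (AlgSt.ofSpMap ((yon S).map s)) w) := by
  haveI : IsFibGrpd (AlgSt.ofSch U).p := Stk.isFibGrpd_ofPsh _
  haveI : IsFibGrpd (fp w w).p := isFibGrpd_fp
  obtain ⟨H, a, hH, ha⟩ := exists_along (repByAlgSp1_of_with hw) (IsAlgSpace.yon_obj (S := S) U) w
  have hsm := prop_of_along good_smooth.bc.precomp_iso hw ha
  obtain ⟨e, he, ⟨β⟩⟩ := ha
  obtain ⟨R, π, hπ, hπs⟩ := hH.atlas
  obtain ⟨v, hv1, hv2⟩ := AlgStBig.exists_point_fp (f := w) (g := w) _ _ h
  obtain ⟨v₁, rfl⟩ := (AlgStBig.map_bijective_of_isEquivOver he).2 v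
  obtain ⟨y, rfl⟩ := (ptsEquiv H).symm.surjective v₁
  obtain ⟨r₀, hr₀⟩ := map_surjective_of_repWith hπs y
  obtain ⟨r, rfl⟩ := (Points.schemeHomeo R).surjective r₀
  let ψ : AlgSt.ofSch R ⥤ᵇ fp w w := BasedFunctor.comp (AlgSt.ofSpMap π) e
  have key : ∀ (g : fp w w ⥤ᵇ AlgSt.ofSch U) (m : R ⟶ U),
      (BasedFunctor.comp ψ g ≅ AlgSt.ofSpMap ((yon S).map m)) →
      AlgSt.Points.map g (AlgSt.Points.map e ((ptsEquiv H).symm y)) =
        (ptsEquiv ((yon S).obj U)).symm (Points.schemeHomeo U (m.left r)) := by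
    intro g m α'
    rw [← hr₀, ← map_ofPshMap_ptsEquiv_symm, ← AlgStBig.map_comp, ← AlgStBig.map_comp]
    show AlgSt.Points.map (BasedFunctor.comp ψ g) _ = _
    rw [AlgStBig.map_congr α', map_ofPshMap_ptsEquiv_symm, Points.map_yon_map_apply]
  obtain ⟨t, ht⟩ := (yon S).map_surjective (π ≫ a)
  have αt : BasedFunctor.comp ψ (FibCat.fpFst w w) ≅ AlgSt.ofSpMap ((yon S).map t) := by
    rw [ht]
    exact whiskerLeftIso' (AlgSt.ofSpMap π) β
  obtain ⟨αs₀⟩ := nonempty_iso_mapOf (BasedFunctor.comp ψ (FibCat.fpSnd w w))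
  obtain ⟨s, hs⟩ := (yon S).map_surjective (ObjectProperty.homMk (mapOf (BasedFunctor.comp ψ (FibCat.fpSnd w w))) :
    (yon S).obj R ⟶ (yon S).obj U)
  have αs : BasedFunctor.comp ψ (FibCat.fpSnd w w) ≅ AlgSt.ofSpMap ((yon S).map s) := by rw [hs]; exact αs₀
  have ht' := key (FibCat.fpFst w w) t αt
  have hs' := key (FibCat.fpSnd w w) s αs
  refine ⟨R, t, s, r, ?_, ?_, ?_, ⟨?_⟩⟩
  · refine (locP_yon_map_iff (P := (@Smooth : MorphismProperty Scheme.{u})) t).1 ?_
    rw [ht]
    exact locP_etale_comp (isEtaleMor_of_repWith hπ) hsm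
  · exact (Points.schemeHomeo U).injective ((ptsEquiv _).symm.injective (ht'.symm.trans hv1))
  · exact (Points.schemeHomeo U).injective ((ptsEquiv _).symm.injective (hs'.symm.trans hv2))
  · exact whiskerRightIso' αt.symm w ≪≫ whiskerLeftIso' ψ (fpIso w w) ≪≫ whiskerRightIso' αs w

/-- Base change of a chart-level property of a fixed morphism. -/
lemma flat_of_along_pullback [IsFibGrpd 𝒳.p] [IsFibGrpd 𝒵.p] {f : 𝒳 ⥤ᵇ 𝒵} {U T : Over S} (g : T ⟶ U)
    (w : AlgSt.ofSch U ⥤ᵇ 𝒵) {H : Sp S} {a : H ⟶ (yon S).obj U} (ha : Along w f a.hom) :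
    Along (BasedFunctor.comp (AlgSt.ofSpMap ((yon S).map g)) w) f (pullback.snd a ((yon S).map g)).hom :=
  ha.of_isPullback (isPullback_sheaf (IsPullback.of_hasPullback a ((yon S).map g)))

/-- Every representable morphism to a reduced stack with one point is flat. -/
theorem repByAlgSpWith_flat_of_singleton (h𝒵 : AlgSt.IsAlgStack Scheme.fppfPrecoverage 𝒵)
    (hred : AlgSt.SmoothLocally (fun T => AlgebraicGeometry.IsReduced T) 𝒵)
    (hsub : Subsingleton (AlgSt.Points 𝒵)) [IsFibGrpd 𝒳.p] (f : 𝒳 ⥤ᵇ 𝒵) (hf : AlgSt.RepByAlgSp1 f) :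
    AlgSt.RepByAlgSpWith (LocP @Flat) f := by
  haveI := h𝒵.isStack.1
  obtain ⟨U, x, hx, hxs⟩ := h𝒵.atlas
  haveI : AlgebraicGeometry.IsReduced U.left := hred U x hx
  haveI : IsFibGrpd (AlgSt.ofSch U).p := Stk.isFibGrpd_ofPsh _
  let w := BasedFunctor.comp (AlgSt.toOverCat U) x
  have hw := repByAlgSpWith_toOverCat_comp hx
  have hU := IsAlgSpace.yon_obj (S := S) U
  obtain ⟨H, a, hH, ha⟩ := exists_along hf hU w
  have hfl : LocP @Flat a := by
    obtain ⟨W, c, hc, hcs⟩ := hH.atlas
    obtain ⟨φ, hφ⟩ := (yon S).map_surjective (c ≫ a)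
    refine AlgSpLib.locP_of_chart (h₀ := φ) hc hcs (repWith_id _ U) (by rw [hφ, Category.comp_id])
      (flat_of_forall_stalk φ.left fun p => ?_)
    -- the local scheme at `p`
    let c₁ : Over.mk (U.left.fromSpecStalk p ≫ U.hom) ⟶ U := Over.homMk (U.left.fromSpecStalk p) rfl
    have hT := IsAlgSpace.yon_obj (S := S) (Over.mk (U.left.fromSpecStalk p ≫ U.hom))
    have hflat : LocP @Flat (pullback.snd a ((yon S).map c₁)) := by
      obtain ⟨η, -, hη1, hη2⟩ := exists_maximal_point U.left p
      obtain ⟨R, t, s, r, ht, hr1, hr2, ⟨α⟩⟩ := exists_linked w hw p η (Subsingleton.elim _ _)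
      let c₂ : Over.mk (U.left.fromSpecStalk η ≫ U.hom) ⟶ U := Over.homMk (U.left.fromSpecStalk η) rfl
      haveI : Subsingleton ↥(Over.mk (U.left.fromSpecStalk η ≫ U.hom)).left := hη1
      haveI : IsIntegral (Over.mk (U.left.fromSpecStalk η ≫ U.hom)).left := hη2
      let Tr : Over S := Over.mk (R.left.fromSpecStalk r ≫ R.hom)
      let cr : Tr ⟶ R := Over.homMk (R.left.fromSpecStalk r) rfl
      subst hr1 hr2
      let τ : Tr ⟶ Over.mk (U.left.fromSpecStalk (t.left r) ≫ U.hom) :=
        Over.homMk (Spec.map (t.left.stalkMap r)) (by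
          show Spec.map (t.left.stalkMap r) ≫ U.left.fromSpecStalk (t.left r) ≫ U.hom = R.left.fromSpecStalk r ≫ R.hom
          rw [Scheme.SpecMap_stalkMap_fromSpecStalk_assoc, Over.w])
      let σ : Tr ⟶ Over.mk (U.left.fromSpecStalk (s.left r) ≫ U.hom) :=
        Over.homMk (Spec.map (s.left.stalkMap r)) (by
          show Spec.map (s.left.stalkMap r) ≫ U.left.fromSpecStalk (s.left r) ≫ U.hom = R.left.fromSpecStalk r ≫ R.hom
          rw [Scheme.SpecMap_stalkMap_fromSpecStalk_assoc, Over.w])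
      have eτ : τ ≫ c₁ = cr ≫ t := Over.OverMorphism.ext (Scheme.SpecMap_stalkMap_fromSpecStalk t.left)
      have eσ : σ ≫ c₂ = cr ≫ s := Over.OverMorphism.ext (Scheme.SpecMap_stalkMap_fromSpecStalk s.left)
      have hTr := IsAlgSpace.yon_obj (S := S) Tr
      have hT₂ := IsAlgSpace.yon_obj (S := S) (Over.mk (U.left.fromSpecStalk (s.left r) ≫ U.hom))
      -- the two descriptions over `Spec` of the local ring of `R`
      let P₁ := pullback a ((yon S).map c₁)
      let P₂ := pullback a ((yon S).map c₂)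
      have hP₁ : IsAlgSpace P₁ := isAlgSpace_pullback hH hT hU _ _
      have hP₂ : IsAlgSpace P₂ := isAlgSpace_pullback hH hT₂ hU _ _
      let b₁ := pullback.snd (pullback.snd a ((yon S).map c₁)) ((yon S).map τ)
      let b₂ := pullback.snd (pullback.snd a ((yon S).map c₂)) ((yon S).map σ)
      have a₁ := flat_of_along_pullback τ _ (flat_of_along_pullback c₁ w ha)
      have a₂ := flat_of_along_pullback σ _ (flat_of_along_pullback c₂ w ha)
      have fl₂ : LocP @Flat b₂ :=
        good_flat.bc hP₂ hT₂ (isAlgSpace_pullback hP₂ hTr hT₂ _ _) hTr _ _ _ _ (IsPullback.of_hasPullback _ _)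
          (locP_flat_to_point hP₂ _)
      have comp_eq : ∀ {A B C D : Over S} (i : A ⟶ B) (j : B ⟶ C) (k : A ⟶ D) (l : D ⟶ C) (e : i ≫ j = k ≫ l)
          (v : AlgSt.ofSch C ⥤ᵇ 𝒵), Nonempty (BasedFunctor.comp (AlgSt.ofSpMap ((yon S).map i))
            (BasedFunctor.comp (AlgSt.ofSpMap ((yon S).map j)) v) ≅
          BasedFunctor.comp (AlgSt.ofSpMap ((yon S).map k)) (BasedFunctor.comp (AlgSt.ofSpMap ((yon S).map l)) v)) := by
        intro A B C D i j k l e v
        have hF : BasedFunctor.comp (AlgSt.ofSpMap ((yon S).map i)) (AlgSt.ofSpMap ((yon S).map j)) =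
            BasedFunctor.comp (AlgSt.ofSpMap ((yon S).map k)) (AlgSt.ofSpMap ((yon S).map l)) := by
          show AlgSt.ofSpMap ((yon S).map i ≫ (yon S).map j) = AlgSt.ofSpMap ((yon S).map k ≫ (yon S).map l)
          rw [← Functor.map_comp, ← Functor.map_comp, e]
        exact ⟨whiskerRightIso' (eqToIso hF) v⟩
      obtain ⟨β₁⟩ := comp_eq τ c₁ cr t eτ w
      obtain ⟨β₂⟩ := comp_eq σ c₂ cr s eσ w
      obtain ⟨i, hi⟩ := along_hom_unique
        (a₁.congr (β₁ ≪≫ whiskerLeftIso' _ α ≪≫ β₂.symm) (Iso.refl _)) a₂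
      have fl₁ : LocP @Flat b₁ := by
        rw [show b₁ = i.hom ≫ b₂ from hi.symm]
        exact good_flat.bc.precomp_iso i b₂ (isAlgSpace_pullback hP₂ hTr hT₂ _ _) hTr fl₂
      haveI : IsAffine (Over.mk (U.left.fromSpecStalk (t.left r) ≫ U.hom)).left :=
        inferInstanceAs (IsAffine (Spec _))
      haveI : IsAffine Tr.left := inferInstanceAs (IsAffine (Spec _))
      haveI : Flat τ.left := by
        show Flat (Spec.map (t.left.stalkMap r))
        exact Flat.SpecMap_iff.2 (Flat.stalkMap t.left r)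
      haveI : Surjective τ.left := by
        show Surjective (Spec.map (t.left.stalkMap r))
        letI := (t.left.stalkMap r).hom.toAlgebra
        haveI : Module.Flat (U.left.presheaf.stalk (t.left r)) (R.left.presheaf.stalk r) :=
          Flat.stalkMap t.left r
        haveI : IsLocalHom (algebraMap (U.left.presheaf.stalk (t.left r)) (R.left.presheaf.stalk r)) :=
          inferInstanceAs (IsLocalHom (t.left.stalkMap r).hom)
        haveI := Module.FaithfullyFlat.of_flat_of_isLocalHom (A := U.left.presheaf.stalk (t.left r))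
          (B := R.left.presheaf.stalk r)
        exact ⟨PrimeSpectrum.comap_surjective_of_faithfullyFlat (A := U.left.presheaf.stalk (t.left r))
          (B := R.left.presheaf.stalk r)⟩
      exact (isLocalOnBase_fpqc_locP_of_descendsAlong S @Flat (ι := PUnit.{u + 1}) _ _ hT (fun _ => hTr)
        (isFpqcCover_singleton hTr hT (f := (yon S).map τ) ((locP_yon_map_iff τ).mpr inferInstance)
          (isQuasiCompactMor_of_repWith hTr hT ((repWith_yon_map_iff @QuasiCompact τ).mpr inferInstance))
          (map_surjective_of_repWith ((repWith_yon_map_iff @Surjective τ).mpr inferInstance)))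
        _ hP₁ _ (fun _ => b₁) _ (fun _ => isAlgSpace_pullback hP₁ hTr hT _ _)
        (fun _ => IsPullback.of_hasPullback _ _)).mpr fun _ => fl₁
    -- back to the chart
    have sq := IsPullback.of_hasPullback φ c₁
    have sqY := sq.map (yon S)
    have sqP := IsPullback.of_hasPullback a ((yon S).map c₁)
    let i := sqP.lift ((yon S).map (pullback.fst φ c₁) ≫ c) ((yon S).map (pullback.snd φ c₁))
      (by rw [Category.assoc, ← hφ]; exact sqY.w)
    have sqi : IsPullback ((yon S).map (pullback.fst φ c₁)) i c (pullback.fst a ((yon S).map c₁)) := by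
      refine IsPullback.of_bot ?_ (sqP.lift_fst _ _ _).symm sqP
      rw [sqP.lift_snd, ← hφ]
      exact sqY
    have hfl : LocP @Flat ((yon S).map (pullback.snd φ c₁)) := by
      rw [← sqP.lift_snd ((yon S).map (pullback.fst φ c₁) ≫ c) ((yon S).map (pullback.snd φ c₁))
        (by rw [Category.assoc, ← hφ]; exact sqY.w)]
      exact locP_etale_comp (isEtaleMor_of_repWith (repWith_of_isPullback sqi hc)) hflat
    haveI : Flat (pullback.snd φ c₁).left := (locP_yon_map_iff (P := (@Flat : MorphismProperty Scheme.{u})) _).1 hfl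
    have e := IsPullback.isoPullback_inv_snd (sq.map (Over.forget S))
    change _ ≫ (pullback.snd φ c₁).left = pullback.snd φ.left (U.left.fromSpecStalk p) at e
    rw [← e]
    infer_instance
  refine repByAlgSpWith_of_fppf_cover good_flat.bc (isLocalOnBase_fppf_of_fpqc
      (isLocalOnBase_fpqc_locP_of_descendsAlong S @Flat)) hf
    (repByAlgSpWith_mono (fun _ _ _ _ _ h => locP_flat_of_smooth h) hw)
    (repByAlgSpWith_mono (fun _ _ _ _ _ h => locP_lfp_of_smooth h) hw)
    (repByAlgSpWith_toOverCat_comp hxs) ?_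
  obtain ⟨e, he, ⟨β⟩⟩ := ha
  haveI : IsFibGrpd (fp w f).p := isFibGrpd_fp
  refine (repByAlgSpWith_square_iff (f := FibCat.fpFst w f) (f' := AlgSt.ofSpMap a) (a := e)
    (b := BasedFunctor.id _) he (isEquivOver_id _) β.symm _).mpr ?_
  exact repByAlgSpWith_ofSpMap hH hU a fun V ξ =>
    good_flat.bc hH hU (isAlgSpace_pullback hH (IsAlgSpace.yon_obj V) hU _ _) (IsAlgSpace.yon_obj V)
      _ _ _ _ (IsPullback.of_hasPullback a ξ) hfl

end ResGerbeLib
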