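import Groth.Agent.ResGerbeLib.Factor
import Groth.Agent.AlgStBig.Rows4
import Groth.Agent.AlgStBig.MonoFull

/-! The essential image of a monomorphism of algebraic stacks. -/

set_option autoImplicit false
set_option linter.all false
set_option backward.isDefEq.respectTransparency false
set_option backward.isDefEq.respectTransparency.types false

universe u

open CategoryTheory CategoryTheory.Limits AlgebraicGeometry Opposite AlgSp FibCat FibLib AlgSpLib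
open CategoryTheory.Functor (Fiber)
open AlgStLib AlgStBig

namespace ResGerbeLib

variable {S : Scheme.{u}} {𝒳 𝒵 : AlgSt.Cat S}

/-- A monomorphism is an equivalence onto its essential image. -/
theorem exists_image (h𝒳 : AlgSt.IsAlgStack Scheme.fppfPrecoverage 𝒳)
    (h𝒵 : AlgSt.IsAlgStack Scheme.fppfPrecoverage 𝒵) (f : 𝒵 ⥤ᵇ 𝒳) (hf : AlgSt.IsMono f) :
    ∃ Q : 𝒳.obj → Prop, ObjectProperty.IsClosedUnderIsomorphisms Q ∧
      ∃ e : 𝒵 ⥤ᵇ AlgSt.fullSub 𝒳 Q, IsEquivOver e ∧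
        Nonempty (BasedFunctor.comp e (AlgSt.subIncl 𝒳 Q) ≅ f) := by
  haveI := h𝒵.isStack.1
  haveI := h𝒳.isStack.1
  haveI : f.toFunctor.Faithful := (AlgStSetoidLib.repByAlgSp1_iff_faithful h𝒵 h𝒳 f).mp (repByAlgSp1_of_with hf)
  haveI := AlgStBig.full_of_isMono hf
  let Q : 𝒳.obj → Prop := fun ξ => ∃ z, Nonempty (f.obj z ≅ ξ)
  have hQ : ∀ z, Q (f.obj z) := fun z => ⟨z, ⟨Iso.refl _⟩⟩
  let e := liftSub (Q := Q) f hQ
  haveI : e.toFunctor.Faithful := inferInstanceAs (ObjectProperty.lift Q f.toFunctor hQ).Faithful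
  haveI : e.toFunctor.Full := inferInstanceAs (ObjectProperty.lift Q f.toFunctor hQ).Full
  haveI : e.toFunctor.EssSurj := ⟨fun ξ => by
    obtain ⟨z, ⟨i⟩⟩ := ξ.property
    exact ⟨z, ⟨ObjectProperty.isoMk Q i⟩⟩⟩
  haveI : e.toFunctor.IsEquivalence := {}
  haveI : 𝒵.p.IsFibered := FibLib.isFibered_of_isFibGrpd _
  exact ⟨Q, ⟨fun i ⟨z, ⟨j⟩⟩ => ⟨z, ⟨j ≪≫ i⟩⟩⟩, e, isEquivOver_of_isEquivalence_of_isFibered e, ⟨eqToIso rfl⟩⟩

/-- Algebraicity and smooth local properties pass along equivalences. -/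
theorem transfer {e : 𝒵 ⥤ᵇ 𝒳} (he : IsEquivOver e) :
    (AlgSt.IsAlgStack Scheme.fppfPrecoverage 𝒵 → AlgSt.IsAlgStack Scheme.fppfPrecoverage 𝒳) ∧
      ∀ P : Scheme.{u} → Prop, AlgSt.SmoothLocally P 𝒵 → AlgSt.SmoothLocally P 𝒳 := by
  refine ⟨(AlgStBig.isAlgStack_iff_of_isEquivOver he).1, fun P h U x hx => ?_⟩
  obtain ⟨e', he', -, ⟨β⟩⟩ := AlgStLib.exists_inverse he
  refine h U (BasedFunctor.comp x e') ?_
  exact (repByAlgSpWith_square_iff (f := x) (f' := BasedFunctor.comp x e') (a := BasedFunctor.id _) (b := e)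
    (isEquivOver_id _) he (whiskerLeftIso' x β) _).mp hx

theorem points_of_equiv {x : AlgSt.Points 𝒳} {Q : 𝒳.obj → Prop} {e : 𝒵 ⥤ᵇ AlgSt.fullSub 𝒳 Q} {f : 𝒵 ⥤ᵇ 𝒳}
    (he : IsEquivOver e) (hi : Nonempty (BasedFunctor.comp e (AlgSt.subIncl 𝒳 Q) ≅ f))
    (hne : Nonempty (AlgSt.Points 𝒵)) (hsub : Subsingleton (AlgSt.Points 𝒵))
    (hfx : ∀ p : AlgSt.Points 𝒵, AlgSt.Points.map f p = x) :
    Nonempty (AlgSt.Points (AlgSt.fullSub 𝒳 Q)) ∧ Subsingleton (AlgSt.Points (AlgSt.fullSub 𝒳 Q)) ∧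
      ∀ z, AlgSt.Points.map (AlgSt.subIncl 𝒳 Q) z = x := by
  have hb := AlgStBig.map_bijective_of_isEquivOver he
  obtain ⟨i⟩ := hi
  refine ⟨hne.map (AlgSt.Points.map e), hb.2.subsingleton, fun z => ?_⟩
  obtain ⟨p, rfl⟩ := hb.2 z
  rw [← AlgStBig.map_comp, AlgStBig.map_congr i, hfx]

end ResGerbeLib
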