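import Groth.Agent.ResGerbeLib.Charts
import Groth.Agent.S0565
import Groth.Agent.S1535

/-! Reduced locally Noetherian one-point stacks are regular. -/

set_option autoImplicit false
set_option linter.all false
set_option backward.isDefEq.respectTransparency false
set_option backward.isDefEq.respectTransparency.types false

universe u

open CategoryTheory CategoryTheory.Limits AlgebraicGeometry Opposite AlgSp FibCat FibLib AlgSpLib
open CategoryTheory.Functor (Fiber)
open AlgStLib AlgStBig

namespace ResGerbeLib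

variable {S : Scheme.{u}} {𝒵 : AlgSt.Cat S}

/-- Regularity descends along surjective flat maps from spectra of fields. -/
theorem regular_of_fieldPt (h𝒵 : AlgSt.IsAlgStack Scheme.fppfPrecoverage 𝒵) {k : Type u} [Field k]
    {s : Spec (CommRingCat.of k) ⟶ S} (z : overCat (Over.mk s) ⥤ᵇ 𝒵)
    (hzs : AlgSt.RepByAlgSpWith IsSurjectiveMor z) (hzf : AlgSt.RepByAlgSpWith (LocP @Flat) z)
    (hn : AlgSt.SmoothLocally (fun T => IsLocallyNoetherian T) 𝒵) :
    AlgSt.SmoothLocally (fun T => ∀ t : T, IsRegularLocalRing (T.presheaf.stalk t)) 𝒵 := by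
  intro U x hx t
  haveI := h𝒵.isStack.1
  obtain ⟨H, a, b, hH, ha, hb⟩ := exists_two_sided (BasedFunctor.comp (AlgSt.toOverCat U) x)
    (BasedFunctor.comp (AlgSt.toOverCat _) z) (repByAlgSp1_ofSch h𝒵 _)
  have hb' := prop_of_along good_smooth.bc.precomp_iso (repByAlgSpWith_toOverCat_comp hx) hb
  have haf := prop_of_along good_flat.bc.precomp_iso (repByAlgSpWith_toOverCat_comp hzf) ha
  have has := prop_of_along good_surjective.bc.precomp_iso (repByAlgSpWith_toOverCat_comp hzs) ha
  obtain ⟨W, c, hc, hcs⟩ := hH.atlas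
  obtain ⟨φ, hφ⟩ := (yon S).map_surjective (c ≫ a)
  obtain ⟨ψ, hψ⟩ := (yon S).map_surjective (c ≫ b)
  letI : W.left.Over (Spec (CommRingCat.of k)) := ⟨ψ.left⟩
  haveI : Smooth (W.left ↘ Spec (CommRingCat.of k)) :=
    (locP_yon_map_iff (P := (@Smooth : MorphismProperty Scheme.{u})) ψ).1
      (hψ ▸ locP_etale_comp (isEtaleMor_of_repWith hc) hb')
  haveI : Flat φ.left := (locP_yon_map_iff (P := (@Flat : MorphismProperty Scheme.{u})) φ).1
    (hφ ▸ locP_etale_comp (isEtaleMor_of_repWith hc) haf)
  haveI := surjective_left hcs has hφ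
  haveI : IsLocallyNoetherian U.left := hn U x hx
  obtain ⟨w, rfl⟩ := φ.left.surjective t
  haveI := Groth.Agent.S1535.result k W.left w
  letI := (φ.left.stalkMap w).hom.toAlgebra
  haveI : IsLocalHom (algebraMap (U.left.presheaf.stalk (φ.left w)) (W.left.presheaf.stalk w)) :=
    inferInstanceAs (IsLocalHom (φ.left.stalkMap w).hom)
  haveI : Module.Flat (U.left.presheaf.stalk (φ.left w)) (W.left.presheaf.stalk w) := Flat.stalkMap φ.left w
  exact Groth.Agent.S0565.result (U.left.presheaf.stalk (φ.left w)) (W.left.presheaf.stalk w)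

end ResGerbeLib
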