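import Groth.Agent.ResGerbeLib.SmoothDescent
import Groth.Agent.ResGerbeLib.Basic
import Groth.Agent.AlgStBig.Substack
import Groth.Agent.AlgStBig.Rows4

/-! The reduced closed substack on a closed set of points. -/

set_option autoImplicit false
set_option linter.all false
set_option backward.isDefEq.respectTransparency false
set_option backward.isDefEq.respectTransparency.types false

universe u

open CategoryTheory CategoryTheory.Limits AlgebraicGeometry Opposite AlgSp FibCat FibLib AlgSpLib TopologicalSpace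
open CategoryTheory.Functor (Fiber)
open AlgStLib AlgStBig AlgSpRegLib

namespace ResGerbeLib

variable {S : Scheme.{u}} {𝒳 : AlgSt.Cat S} {U : Over S} (w : AlgSt.ofSch U ⥤ᵇ 𝒳) (I : U.left.IdealSheafData)

/-- The object of the chart at a point with values in a scheme. -/
abbrev pt {T : Over S} (r : T ⟶ U) : (AlgSt.ofSch U).obj := ⟨T, ⟨r⟩⟩

/-- Equal pullbacks for isomorphic objects of the chart. -/
def Inv : Prop :=
  ∀ (T : Over S) (r s : T ⟶ U) (χ : w.obj (pt r) ⟶ w.obj (pt s)), 𝒳.p.IsHomLift (𝟙 T) χ →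
    I.comap r.left = I.comap s.left

/-- The objects all whose presentations in the chart lie in the closed subscheme. -/
def Cut : 𝒳.obj → Prop :=
  fun y => ∀ (T : Over S) (r : T ⟶ U), (w.obj (pt r) ⟶ y) → I.comap r.left = ⊥

variable {w I}

lemma cut_of_hom ⦃a b : 𝒳.obj⦄ (m : b ⟶ a) (ha : Cut w I a) : Cut w I b := fun T r f => ha T r (f ≫ m)

instance : ObjectProperty.IsClosedUnderIsomorphisms (Cut w I) := ⟨fun e ha => cut_of_hom e.inv ha⟩

/-- The morphism of objects over a morphism of schemes. -/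
def resHom {V : Over S} {T T' : Over S} (β : T' ⟶ T) (g : T ⟶ V) (g' : T' ⟶ V) (h : β ≫ g = g') :
    (⟨T', ⟨g'⟩⟩ : (AlgSt.ofSch V).obj) ⟶ ⟨T, ⟨g⟩⟩ := ⟨β, congrArg ULift.up h⟩

lemma resHom_lift {V : Over S} (u : AlgSt.ofSch V ⥤ᵇ 𝒳) {T T' : Over S} (β : T' ⟶ T) (g : T ⟶ V) (g' : T' ⟶ V)
    (h : β ≫ g = g') : 𝒳.p.IsHomLift β (u.map (resHom β g g' h)) := by
  haveI : (AlgSt.ofSch V).p.IsHomLift β (resHom β g g' h) := IsHomLift.map _ (resHom β g g' h)
  exact u.preserves_isHomLift β (resHom β g g' h)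

theorem cut_pt_iff [IsFibGrpd 𝒳.p] (hI : Inv w I) {T : Over S} (g : T ⟶ U) :
    Cut w I (w.obj (pt g)) ↔ I.comap g.left = ⊥ := by
  refine ⟨fun h => h T g (𝟙 _), fun h T' r m => ?_⟩
  let β : T' ⟶ T := eqToHom (w.w_obj (pt r)).symm ≫ 𝒳.p.map m ≫ eqToHom (w.w_obj (pt g))
  haveI : 𝒳.p.IsHomLift β m := IsHomLift.of_fac _ _ _ (w.w_obj (pt r)) (w.w_obj (pt g)) rfl
  haveI := resHom_lift w β g (β ≫ g) rfl
  obtain ⟨χ, hχ⟩ := AlgStBig.exists_vert_to_lift β m (w.map (resHom β g (β ≫ g) rfl))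
  rw [hI T' r (β ≫ g) χ hχ, Over.comp_left, Scheme.IdealSheafData.comap_comp, h, Scheme.IdealSheafData.comap_bot]

/-- The base change of the substack along an arbitrary object. -/
theorem cut_obj_iff [IsFibGrpd 𝒳.p] (hI : Inv w I) {V W : Over S} (φ : W ⟶ V) [Smooth φ.left] [Surjective φ.left]
    (ψ : W ⟶ U) (u : AlgSt.ofSch V ⥤ᵇ 𝒳)
    (α : BasedFunctor.comp (AlgSt.ofSpMap ((yon S).map φ)) u ≅ BasedFunctor.comp (AlgSt.ofSpMap ((yon S).map ψ)) w)
    {Z : Sp S} (i : Z ⟶ (yon S).obj V) [Mono i] (z : (yon S).obj (subOver W (I.comap ψ.left)) ⟶ Z)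
    (sq : IsPullback z ((yon S).map (subι W (I.comap ψ.left))) i ((yon S).map φ)) {T : Over S} (g : T ⟶ V) :
    Cut w I (u.obj ⟨T, ⟨g⟩⟩) ↔ ∃ l, l ≫ i = (yon S).map g := by
  constructor
  · intro h
    let C := pullback g φ
    let p : C ⟶ T := pullback.fst g φ
    let q : C ⟶ W := pullback.snd g φ
    haveI : Smooth p.left := MorphismProperty.of_isPullback (P := @Smooth)
      ((IsPullback.of_hasPullback g φ).map (Over.forget S)).flip ‹_›
    haveI : Surjective p.left := MorphismProperty.of_isPullback (P := @Surjective)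
      ((IsPullback.of_hasPullback g φ).map (Over.forget S)).flip ‹_›
    haveI := resHom_lift u p g (q ≫ φ) pullback.condition
    have hq := h C (q ≫ ψ) ((appIso α ⟨C, ⟨q⟩⟩).inv ≫ u.map (resHom p g (q ≫ φ) pullback.condition))
    rw [Over.comp_left, Scheme.IdealSheafData.comap_comp] at hq
    obtain ⟨l, hl⟩ := (factor_subι _ q).2 hq
    haveI : Sheaf.IsLocallySurjective ((yon S).map p) :=
      isLocallySurjective_of_fppf (IsAlgSpace.yon_obj C) (IsAlgSpace.yon_obj T) _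
        ((locP_yon_map_iff p).2 inferInstance) ((locP_yon_map_iff p).2 inferInstance)
        (map_surjective_of_repWith ((repWith_yon_map_iff @Surjective p).2 inferInstance))
    refine factor_of_cover i ((yon S).map p) ((yon S).map g) ((yon S).map l ≫ z) ?_
    rw [Category.assoc, sq.w, ← Functor.map_comp_assoc, hl, ← Functor.map_comp, ← Functor.map_comp,
      pullback.condition]
  · rintro ⟨l, hl⟩ T' r m
    let β : T' ⟶ T := eqToHom (w.w_obj (pt r)).symm ≫ 𝒳.p.map m ≫ eqToHom (u.w_obj ⟨T, ⟨g⟩⟩)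
    haveI : 𝒳.p.IsHomLift β m := IsHomLift.of_fac _ _ _ (w.w_obj (pt r)) (u.w_obj ⟨T, ⟨g⟩⟩) rfl
    let C := pullback (β ≫ g) φ
    let p : C ⟶ T' := pullback.fst (β ≫ g) φ
    let q : C ⟶ W := pullback.snd (β ≫ g) φ
    haveI : Smooth p.left := MorphismProperty.of_isPullback (P := @Smooth)
      ((IsPullback.of_hasPullback (β ≫ g) φ).map (Over.forget S)).flip ‹_›
    haveI : Surjective p.left := MorphismProperty.of_isPullback (P := @Surjective)
      ((IsPullback.of_hasPullback (β ≫ g) φ).map (Over.forget S)).flip ‹_›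
    have e : (p ≫ β) ≫ g = q ≫ φ := (Category.assoc _ _ _).trans pullback.condition
    -- two presentations over `C`
    haveI := resHom_lift w p r (p ≫ r) rfl
    haveI : 𝒳.p.IsHomLift (p ≫ β) (w.map (resHom p r (p ≫ r) rfl) ≫ m) := inferInstance
    haveI := resHom_lift u (p ≫ β) g (q ≫ φ) e
    haveI : 𝒳.p.IsHomLift (𝟙 C) (appIso α (⟨C, ⟨q⟩⟩ : (AlgSt.ofSch W).obj)).inv :=
      α.inv.isHomLift (a := (⟨C, ⟨q⟩⟩ : (AlgSt.ofSch W).obj)) rfl
    haveI : 𝒳.p.IsHomLift (p ≫ β)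
        ((appIso α (⟨C, ⟨q⟩⟩ : (AlgSt.ofSch W).obj)).inv ≫ u.map (resHom (p ≫ β) g (q ≫ φ) e)) := by
      have := (inferInstance : 𝒳.p.IsHomLift (𝟙 C ≫ (p ≫ β))
        ((appIso α (⟨C, ⟨q⟩⟩ : (AlgSt.ofSch W).obj)).inv ≫ u.map (resHom (p ≫ β) g (q ≫ φ) e)))
      rwa [Category.id_comp] at this
    obtain ⟨χ, hχ⟩ := AlgStBig.exists_vert_to_lift (p ≫ β) (w.map (resHom p r (p ≫ r) rfl) ≫ m)
      ((appIso α (⟨C, ⟨q⟩⟩ : (AlgSt.ofSch W).obj)).inv ≫ u.map (resHom (p ≫ β) g (q ≫ φ) e))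
    have hC := hI C (p ≫ r) (q ≫ ψ) χ hχ
    rw [Over.comp_left, Over.comp_left, Scheme.IdealSheafData.comap_comp, Scheme.IdealSheafData.comap_comp] at hC
    -- the second one lies in the closed subscheme
    obtain ⟨k, hk⟩ := (yon S).map_surjective (sq.lift ((yon S).map (p ≫ β) ≫ l) ((yon S).map q) (by
      rw [Category.assoc, hl, ← Functor.map_comp, ← Functor.map_comp, e]))
    have hq : (I.comap ψ.left).comap q.left = ⊥ := (factor_subι _ q).1
      ⟨k, (yon S).map_injective (by rw [Functor.map_comp, hk, sq.lift_snd])⟩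
    refine comap_injective_of_flat_surjective p.left ?_
    rw [hC, hq, Scheme.IdealSheafData.comap_bot]

/-- A subsheaf with the right sections represents the base change of the substack. -/
theorem along_of_criterion [IsFibGrpd 𝒳.p] {V : Over S} {u : AlgSt.ofSch V ⥤ᵇ 𝒳} {Z : Sp S}
    (i : Z ⟶ (yon S).obj V) [Mono i]
    (h : ∀ {T : Over S} (g : T ⟶ V), Cut w I (u.obj ⟨T, ⟨g⟩⟩) ↔ ∃ l, l ≫ i = (yon S).map g) :
    Along u (AlgSt.subIncl 𝒳 (Cut w I)) i.hom := by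
  haveI : IsFibGrpd (AlgSt.fullSub 𝒳 (Cut w I)).p := isFibGrpd_fullSub fun _ _ m h => cut_of_hom m h
  let ι := Stk.ofPshMap i.hom
  have hyon : ∀ {T : Over S} (g : T ⟶ V), yEq ((yon S).map g) = ⟨g⟩ := fun g => by
    show (AlgSp.J S).uliftYonedaEquiv ((yon S).map g) = ⟨g⟩
    exact GrothendieckTopology.uliftYonedaEquiv_uliftYoneda_map _ g
  have hQ : ∀ o, Cut w I (u.obj (ι.obj o)) := fun o => by
    refine (h (i.hom.app _ o.sec).down).2 ⟨yEq.symm o.sec, yEq.injective ?_⟩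
    rw [hyon, AlgSpLib.yEq_comp, Equiv.apply_symm_apply]
    rfl
  let v : AlgSt.ofSp Z ⥤ᵇ AlgSt.fullSub 𝒳 (Cut w I) :=
    { toFunctor := ObjectProperty.lift (Cut w I) (ι.toFunctor ⋙ u.toFunctor) hQ
      w := (BasedFunctor.comp ι u).w }
  let e := fpLift (F := u) (G := AlgSt.subIncl 𝒳 (Cut w I)) ι v (Iso.refl _)
  refine ⟨e, ?_, ⟨Iso.refl _⟩⟩
  haveI : e.toFunctor.Faithful := ⟨fun {a b} x y h => by
    refine Stk.EltObj.hom_ext ?_
    exact congrArg (fun k => k.hom.fst.hom) h⟩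
  haveI : Mono i.hom := inferInstance
  have hinj : ∀ T, Function.Injective (i.hom.app T) := fun T =>
    (CategoryTheory.mono_iff_injective _).1 inferInstance
  haveI : e.toFunctor.Full := ⟨fun {a b} k => by
    have hk : Z.obj.map k.hom.fst.hom.op b.sec = a.sec := hinj _ (by
      rw [NatTrans.naturality_apply]; exact k.hom.fst.map_sec)
    refine ⟨⟨k.hom.fst.hom, hk⟩, fp_hom_ext (Stk.EltObj.hom_ext rfl) (ObjectProperty.hom_ext _ ?_)⟩
    have w := k.hom.w
    change u.map k.hom.fst ≫ 𝟙 _ = 𝟙 _ ≫ k.hom.snd.hom at w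
    erw [Category.comp_id, Category.id_comp] at w
    exact w⟩
  refine isEquivOver_of_vertEssSurj e fun ξ => ?_
  obtain ⟨⟨⟨U', sec⟩, z, j₀⟩, hi⟩ := ξ
  have hs : Cut w I (u.obj ⟨U', sec⟩) := cut_of_hom j₀.hom z.property
  obtain ⟨l, hl⟩ := (h sec.down).1 hs
  have hl' : i.hom.app (op U') (yEq l) = sec := by
    rw [← AlgSpLib.yEq_comp, hl, hyon]
    rfl
  let o : Stk.EltObj Z.obj := ⟨U', yEq l⟩
  have ho : ι.obj o = ⟨U', sec⟩ := by show (⟨U', i.hom.app (op U') (yEq l)⟩ : Stk.EltObj _) = _; rw [hl']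
  subst hl'
  let j : (⟨u.obj (ι.obj o), hQ o⟩ : (AlgSt.fullSub 𝒳 (Cut w I)).obj) ≅ z := ObjectProperty.isoMk _ j₀
  let k : e.obj o ≅ _ := fpIsoMk (x := e.obj o) (y := ⟨⟨⟨U', i.hom.app (op U') (yEq l)⟩, z, j₀⟩, hi⟩) (Iso.refl _) j (by
    change u.map (𝟙 _) ≫ j₀.hom = 𝟙 _ ≫ j₀.hom
    rw [u.toFunctor.map_id])
  refine ⟨o, k, ?_⟩
  haveI : (AlgSt.ofSch V).p.IsHomLift (𝟙 U') k.hom.hom.fst := IsHomLift.id rfl
  exact isHomLift_of_fst (𝟙 U') k.hom

end ResGerbeLib
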