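import Groth.Agent.ResGerbeLib.Substack1
import Groth.Agent.AlgStBig.SmLoc

/-! The reduced closed substack on a closed set of points. -/

set_option autoImplicit false
set_option linter.all false
set_option backward.isDefEq.respectTransparency false
set_option backward.isDefEq.respectTransparency.types false

universe u

open CategoryTheory CategoryTheory.Limits AlgebraicGeometry Opposite AlgSp FibCat FibLib AlgSpLib TopologicalSpace
open CategoryTheory.Functor (Fiber)
open AlgStLib AlgStBig AlgSpRegLib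

namespace ResGerbeLib

variable {S : Scheme.{u}} {𝒳 : AlgSt.Cat S}

/-- Reducedness is local for the smooth topology. -/
theorem smLocalProp_isReduced : AlgStBig.SmLocalProp (fun T : Scheme.{u} => AlgebraicGeometry.IsReduced T) := by
  intro U R hR
  refine ⟨fun h V g hg => ?_, fun h => ?_⟩
  · haveI : Smooth g := hR.2 hg
    haveI := h
    exact AlgSpLib.isReduced_of_smooth g
  · have : ∀ x : U, _root_.IsReduced (U.presheaf.stalk x) := fun x => by
      obtain ⟨V, g', hg', hx⟩ := hR.1 x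
      cases hg' with
      | @of V g hg =>
      obtain ⟨v, rfl⟩ := hx
      haveI : Smooth g := hR.2 hg
      haveI : AlgebraicGeometry.IsReduced V := h g hg
      exact AlgSpLib.isReduced_stalk_of_flat g v
    exact isReduced_of_isReduced_stalk U

variable {U : Over S}

/-- The ideal of a closed set of points is invariant. -/
theorem inv_vanishingIdeal [IsFibGrpd 𝒳.p] (w : AlgSt.ofSch U ⥤ᵇ 𝒳) (hw : AlgSt.RepByAlgSpWith (LocP @Smooth) w)
    (T : Set (AlgSt.Points 𝒳)) (C : Closeds U.left) (hC : ∀ y, y ∈ C ↔ ptMap w (Points.schemeHomeo U y) ∈ T) :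
    Inv w (Scheme.IdealSheafData.vanishingIdeal C) := by
  intro T' r s χ hχ
  haveI : IsFibGrpd (AlgSt.ofSch U).p := Stk.isFibGrpd_ofPsh _
  haveI : IsFibGrpd (fp w w).p := isFibGrpd_fp
  haveI : IsIso χ := isIso_of_isHomLift 𝒳.p (𝟙 T') χ
  -- the chart of the relation
  obtain ⟨H, a, hH, ha⟩ := exists_along (repByAlgSp1_of_with hw) (IsAlgSpace.yon_obj (S := S) U) w
  have hsm := prop_of_along good_smooth.bc.precomp_iso hw ha
  obtain ⟨e, he, ⟨β⟩⟩ := ha
  obtain ⟨γ⟩ := nonempty_iso_mapOf (BasedFunctor.comp e (FibCat.fpSnd w w))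
  let b : H ⟶ (yon S).obj U := ObjectProperty.homMk (mapOf (BasedFunctor.comp e (FibCat.fpSnd w w)))
  have hb : Along w w b.hom :=
    ⟨BasedFunctor.comp e (fpSwap w w), isEquivOver_comp he (isEquivOver_fpSwap w w), ⟨γ⟩⟩
  have hsm' := prop_of_along good_smooth.bc.precomp_iso hw hb
  obtain ⟨R, π, hπ, hπs⟩ := hH.atlas
  obtain ⟨A, hA⟩ := (yon S).map_surjective (π ≫ a)
  obtain ⟨B, hB⟩ := (yon S).map_surjective (π ≫ b)
  haveI : Smooth A.left := (locP_yon_map_iff (P := (@Smooth : MorphismProperty Scheme.{u})) A).1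
    (hA ▸ locP_etale_comp (isEtaleMor_of_repWith hπ) hsm)
  haveI : Smooth B.left := (locP_yon_map_iff (P := (@Smooth : MorphismProperty Scheme.{u})) B).1
    (hB ▸ locP_etale_comp (isEtaleMor_of_repWith hπ) hsm')
  have κ : BasedFunctor.comp (AlgSt.ofSpMap ((yon S).map A)) w ≅ BasedFunctor.comp (AlgSt.ofSpMap ((yon S).map B)) w := by
    rw [hA, hB]
    exact whiskerLeftIso' (AlgSt.ofSpMap π)
      (whiskerRightIso' β.symm w ≪≫ whiskerLeftIso' e (fpIso w w) ≪≫ whiskerRightIso' γ w)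
  have hAB : ∀ y, A.left y ∈ C ↔ B.left y ∈ C := fun y => by
    rw [hC, hC, ← Points.map_yon_map_apply, ← Points.map_yon_map_apply]
    have h1 := congrFun (AlgStBig.ptMap_comp ((yon S).map A) w) (Points.schemeHomeo R y)
    have h2 := congrFun (AlgStBig.ptMap_comp ((yon S).map B) w) (Points.schemeHomeo R y)
    simp only [Function.comp_apply] at h1 h2
    have h3 : ptMap (BasedFunctor.comp (Stk.ofPshMap ((yon S).map A).hom) w) (Points.schemeHomeo R y) =
        ptMap (BasedFunctor.comp (Stk.ofPshMap ((yon S).map B).hom) w) (Points.schemeHomeo R y) :=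
      congrFun (AlgStBig.map_congr κ) _
    rw [← h1, ← h2, h3]
  have hR : (Scheme.IdealSheafData.vanishingIdeal C).comap A.left =
      (Scheme.IdealSheafData.vanishingIdeal C).comap B.left := by
    rw [comap_vanishingIdeal_smooth, comap_vanishingIdeal_smooth]
    congr 1
    ext y
    exact hAB y
  -- the given pair as a point of the relation
  let ξ : (fp w w).obj := fpObj (F := w) (G := w) (pt r) (pt s) (asIso χ) (by
    show 𝒳.p.IsHomLift (𝟙 T') (asIso χ).hom
    rw [asIso_hom]; exact hχ)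
  obtain ⟨⟨_, _⟩, hs⟩ := (isEquivOver_iff e).mp he
  obtain ⟨o, i, hi⟩ := hs ξ
  obtain ⟨j, hj⟩ : ∃ j : T' ⟶ o.base, (fp w w).p.IsHomLift j i.inv :=
    ⟨eqToHom rfl ≫ (fp w w).p.map i.inv ≫ eqToHom (e.w_obj o), IsHomLift.of_fac _ _ _ rfl (e.w_obj o) rfl⟩
  haveI := hj
  haveI h1 := (FibCat.fpFst w w).preserves_isHomLift j i.inv
  haveI h2 := (FibCat.fpSnd w w).preserves_isHomLift j i.inv
  -- compare the first coordinates
  have hfst : r = j ≫ (a.hom.app _ o.sec).down := by
    let q : (pt r : (AlgSt.ofSch U).obj) ⟶ (Stk.ofPshMap a.hom).obj o :=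
      (FibCat.fpFst w w).map i.inv ≫ (appIso β o).hom
    haveI : (AlgSt.ofSch U).p.IsHomLift (𝟙 o.base) (appIso β o).hom := appIso_lift β rfl
    haveI : (AlgSt.ofSch U).p.IsHomLift (j ≫ 𝟙 o.base) q := inferInstance
    have e1 := IsHomLift.fac (AlgSt.ofSch U).p (j ≫ 𝟙 o.base) q
    have e2 : q.hom = j := by simpa using! e1.symm
    have e3 := q.map_sec
    rw [e2] at e3
    exact (congrArg ULift.down e3).symm
  have hsnd : s = j ≫ (b.hom.app _ o.sec).down := by
    let q : (pt s : (AlgSt.ofSch U).obj) ⟶ (Stk.ofPshMap b.hom).obj o :=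
      (FibCat.fpSnd w w).map i.inv ≫ (appIso γ o).hom
    haveI : (AlgSt.ofSch U).p.IsHomLift (𝟙 o.base) (appIso γ o).hom := appIso_lift γ rfl
    haveI : (AlgSt.ofSch U).p.IsHomLift (j ≫ 𝟙 o.base) q := inferInstance
    have e1 := IsHomLift.fac (AlgSt.ofSch U).p (j ≫ 𝟙 o.base) q
    have e2 : q.hom = j := by simpa using! e1.symm
    have e3 := q.map_sec
    rw [e2] at e3
    exact (congrArg ULift.down e3).symm
  -- lift to the atlas of the relation
  obtain ⟨C', c, m, sq⟩ := exists_isPullback_yon π (yEq.symm o.sec : (yon S).obj o.base ⟶ H) hπ.rep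
  haveI : Etale m.left := etale_left (repWith_of_isPullback sq hπ)
  haveI : Surjective m.left := AlgSpLib.surjective_left (repWith_of_isPullback sq hπs)
  have hyon : ∀ {T : Over S} (g : T ⟶ U), yEq ((yon S).map g) = ⟨g⟩ := fun g =>
    GrothendieckTopology.uliftYonedaEquiv_uliftYoneda_map _ g
  have hsa : (yon S).map (a.hom.app _ o.sec).down = yEq.symm o.sec ≫ a := yEq.injective (by
    rw [hyon, AlgSpLib.yEq_comp, Equiv.apply_symm_apply]; rfl)
  have hsb : (yon S).map (b.hom.app _ o.sec).down = yEq.symm o.sec ≫ b := yEq.injective (by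
    rw [hyon, AlgSpLib.yEq_comp, Equiv.apply_symm_apply]; rfl)
  have ea : m ≫ (a.hom.app _ o.sec).down = c ≫ A := (yon S).map_injective (by
    rw [Functor.map_comp, hsa, ← Category.assoc, ← sq.w, Category.assoc, Functor.map_comp, hA])
  have eb : m ≫ (b.hom.app _ o.sec).down = c ≫ B := (yon S).map_injective (by
    rw [Functor.map_comp, hsb, ← Category.assoc, ← sq.w, Category.assoc, Functor.map_comp, hB])
  have h0 : (Scheme.IdealSheafData.vanishingIdeal C).comap (a.hom.app _ o.sec).down.left =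
      (Scheme.IdealSheafData.vanishingIdeal C).comap (b.hom.app _ o.sec).down.left := by
    refine comap_injective_of_flat_surjective m.left ?_
    rw [← Scheme.IdealSheafData.comap_comp, ← Scheme.IdealSheafData.comap_comp, ← Over.comp_left,
      ← Over.comp_left, ea, eb, Over.comp_left, Over.comp_left, Scheme.IdealSheafData.comap_comp,
      Scheme.IdealSheafData.comap_comp, hR]
  rw [hfst, hsnd, Over.comp_left, Over.comp_left, Scheme.IdealSheafData.comap_comp,
    Scheme.IdealSheafData.comap_comp, h0]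

/-- The objects cut out by an invariant closed subscheme form a closed substack. -/
theorem isClosedImm_cut [IsFibGrpd 𝒳.p] (w : AlgSt.ofSch U ⥤ᵇ 𝒳) (hw : AlgSt.RepByAlgSpWith (LocP @Smooth) w)
    (hws : AlgSt.RepByAlgSpWith IsSurjectiveMor w) {I : U.left.IdealSheafData} (hI : Inv w I) :
    AlgSt.IsClosedImm (AlgSt.subIncl 𝒳 (Cut w I)) := by
  refine (repByAlgSpWith_iff _ _).mpr fun V u => ?_
  obtain ⟨H, a, b, hH, ha, -⟩ := exists_two_sided u w (repByAlgSp1_of_with hw)
  have hsm := prop_of_along good_smooth.bc.precomp_iso hw ha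
  have hsj := prop_of_along good_surjective.bc.precomp_iso hws ha
  obtain ⟨e, he, ⟨β⟩⟩ := ha
  obtain ⟨γ⟩ := nonempty_iso_mapOf (BasedFunctor.comp e (FibCat.fpSnd u w))
  let b' : H ⟶ (yon S).obj U := ObjectProperty.homMk (mapOf (BasedFunctor.comp e (FibCat.fpSnd u w)))
  obtain ⟨W, c, hc, hcs⟩ := hH.atlas
  obtain ⟨φ, hφ⟩ := (yon S).map_surjective (c ≫ a)
  obtain ⟨ψ, hψ⟩ := (yon S).map_surjective (c ≫ b')
  haveI : Smooth φ.left := (locP_yon_map_iff (P := (@Smooth : MorphismProperty Scheme.{u})) φ).1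
    (hφ ▸ locP_etale_comp (isEtaleMor_of_repWith hc) hsm)
  haveI := ResGerbeLib.surjective_left hcs hsj hφ
  have κ : BasedFunctor.comp (AlgSt.ofSpMap ((yon S).map φ)) u ≅ BasedFunctor.comp (AlgSt.ofSpMap ((yon S).map ψ)) w := by
    rw [hφ, hψ]
    exact whiskerLeftIso' (AlgSt.ofSpMap c)
      (whiskerRightIso' β.symm u ≪≫ whiskerLeftIso' e (fpIso u w) ≪≫ whiskerRightIso' γ w)
  obtain ⟨Z, i, z, hZ, hi, sq, -⟩ := exists_closedSub_smooth φ (I.comap ψ.left) fun T r s hrs => by
    rw [← Scheme.IdealSheafData.comap_comp, ← Scheme.IdealSheafData.comap_comp, ← Over.comp_left, ← Over.comp_left]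
    have q : u.obj ⟨T, ⟨r ≫ φ⟩⟩ = u.obj ⟨T, ⟨s ≫ φ⟩⟩ := by rw [hrs]
    let o₁ : (AlgSt.ofSch W).obj := ⟨T, ⟨r⟩⟩
    let o₂ : (AlgSt.ofSch W).obj := ⟨T, ⟨s⟩⟩
    haveI : 𝒳.p.IsHomLift (𝟙 T) (appIso κ o₁).inv := κ.inv.isHomLift (a := o₁) rfl
    haveI : 𝒳.p.IsHomLift (𝟙 T) (appIso κ o₂).hom := appIso_lift κ rfl
    haveI : 𝒳.p.IsHomLift (𝟙 T) (eqToHom q) :=
      IsHomLift.of_fac _ _ _ (u.w_obj _) (u.w_obj _) (by simp [eqToHom_map])
    haveI : 𝒳.p.IsHomLift (𝟙 T) ((appIso κ o₁).inv ≫ eqToHom q ≫ (appIso κ o₂).hom) := inferInstance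
    exact hI T (r ≫ ψ) (s ≫ ψ) ((appIso κ o₁).inv ≫ eqToHom q ≫ (appIso κ o₂).hom) inferInstance
  haveI := mono_of_closedImmersion hi
  exact ⟨Z, i, hZ, along_of_criterion i (fun g => cut_obj_iff hI φ ψ u κ i z sq g), hi⟩

end ResGerbeLib
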